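import Mathlib.RingTheory.DedekindDomain.PID
import Mathlib.RingTheory.QuasiFinite.Basic
import Mathlib.RingTheory.Ideal.GoingUp
import Mathlib.RingTheory.IntegralClosure.IntegrallyClosed
import Mathlib.RingTheory.Localization.Module
import Mathlib.RingTheory.LocalRing.ResidueField.Basic
import Mathlib.RingTheory.KrullDimension.Field
import Mathlib.FieldTheory.IsAlgClosed.Basic
import Mathlib.LinearAlgebra.FreeModule.PID

/-!
# One-dimensional local domains with finite normalisation: generic elements
-/

set_option autoImplicit false
set_option linter.style.haveILetI false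

universe u v

namespace Groth.Agent.H23TFCurv

/-- Over a local ring with infinite residue field a module is not a union of finitely many proper submodules. -/
theorem exists_avoid {O : Type u} [CommRing O] [IsLocalRing O] [Infinite (IsLocalRing.ResidueField O)]
    {M : Type v} [AddCommGroup M] [Module O M] {ι : Type*} (s : Finset ι) (S : ι → Submodule O M)
    (h : ∀ i ∈ s, S i ≠ ⊤) : ∃ x : M, ∀ i ∈ s, x ∉ S i := by
  classical
  induction s using Finset.induction_on with
  | empty => exact ⟨0, by simp⟩
  | insert a s ha ih =>
    obtain ⟨x, hx⟩ := ih fun i hi => h i (Finset.mem_insert_of_mem hi)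
    by_cases hxa : x ∈ S a
    · obtain ⟨y, hy⟩ : ∃ y, y ∉ S a := by
        by_contra hc
        push Not at hc
        exact h a (Finset.mem_insert_self a s) (Submodule.eq_top_iff'.mpr hc)
      let lift := Function.surjInv (IsLocalRing.residue_surjective (R := O))
      have hlift : ∀ t, IsLocalRing.residue O (lift t) = t := Function.surjInv_eq _
      -- at most one residue is bad for each submodule
      have hbad : ∀ i ∈ s, {t | x + lift t • y ∈ S i}.Subsingleton := by
        intro i hi t ht t' ht'
        by_contra hne
        have hd : (lift t - lift t') • y ∈ S i := by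
          have := Submodule.sub_mem _ ht ht'
          rwa [add_sub_add_left_eq_sub, ← sub_smul] at this
        have hu : IsUnit (lift t - lift t') := (IsLocalRing.residue_ne_zero_iff_isUnit _).mp (by
          rw [map_sub, hlift, hlift]
          exact sub_ne_zero.mpr hne)
        obtain ⟨u, hu⟩ := hu
        rw [← hu, ← Units.smul_def, Submodule.smul_mem_iff'] at hd
        exact hx i hi (by simpa using Submodule.sub_mem _ ht ((S i).smul_mem (lift t) hd))
      have hfin : (insert 0 (⋃ i ∈ s, {t | x + lift t • y ∈ S i})).Finite :=
        (s.finite_toSet.biUnion fun i hi => (hbad i hi).finite).insert 0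
      obtain ⟨t, ht⟩ := hfin.exists_notMem
      simp only [Set.mem_insert_iff, Set.mem_iUnion, not_or, not_exists] at ht
      refine ⟨x + lift t • y, fun i hi => ?_⟩
      rcases Finset.mem_insert.mp hi with rfl | hi'
      · intro hmem
        have hu : IsUnit (lift t) := (IsLocalRing.residue_ne_zero_iff_isUnit _).mp (by rw [hlift]; exact ht.1)
        obtain ⟨u, hu⟩ := hu
        have := Submodule.sub_mem _ hmem hxa
        rw [add_sub_cancel_left, ← hu, ← Units.smul_def, Submodule.smul_mem_iff'] at this
        exact hy this
      · exact ht.2 i hi'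
    · exact ⟨x, fun i hi => by
        rcases Finset.mem_insert.mp hi with rfl | hi'
        exacts [hxa, hx i hi']⟩

section norm

variable (O : Type u) [CommRing O] [IsDomain O] [IsNoetherianRing O] [IsLocalRing O]
  (K : Type u) [Field K] [Algebra O K] [IsFractionRing O K]

theorem not_isField (hdim : ringKrullDim O = 1) : ¬ IsField O := fun h => by
  rw [ringKrullDim_eq_zero_of_isField h] at hdim
  exact zero_ne_one hdim

theorem isPrincipalIdealRing_normalization (hdim : ringKrullDim O = 1)
    (hfin : Module.Finite O ↥(integralClosure O K)) : IsPrincipalIdealRing ↥(integralClosure O K) := by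
  haveI := hfin
  haveI : Ring.KrullDimLE 1 O := Ring.krullDimLE_iff.mpr hdim.le
  let T := ↥(integralClosure O K)
  haveI : IsNoetherianRing T := IsNoetherianRing.of_finite O T
  haveI : IsIntegrallyClosed T := integralClosure.isIntegrallyClosedOfFiniteExtension K
  have hinj : Function.Injective (algebraMap O T) := fun a b h =>
    IsFractionRing.injective O K (congrArg Subtype.val h)
  have hmem : ∀ P : Ideal T, P.IsPrime → P ≠ ⊥ → P.comap (algebraMap O T) = IsLocalRing.maximalIdeal O := by
    intro P hP hne
    haveI := hP
    refine IsLocalRing.eq_maximalIdeal (Ideal.IsPrime.isMaximal_of_ne_bot (Ideal.IsPrime.comap (algebraMap O T)) ?_)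
    exact fun h => hne (Ideal.eq_bot_of_comap_eq_bot h)
  haveI : Ring.DimensionLEOne T := ⟨fun {P} hne hP => by
    haveI := hP
    apply Ideal.isMaximal_of_isIntegral_of_isMaximal_comap (R := O) P
    rw [hmem P hP hne]
    infer_instance⟩
  haveI : IsDedekindDomain T := {}
  apply IsPrincipalIdealRing.of_finite_primes
  refine ((Algebra.QuasiFinite.finite_primesOver (S := T) (IsLocalRing.maximalIdeal O)).insert ⊥).subset ?_
  intro P hP
  by_cases hne : P = ⊥
  · exact Or.inl hne
  · exact Or.inr ⟨hP, ⟨(hmem P hP hne).symm⟩⟩

theorem comap_of_isMaximal (P : Ideal ↥(integralClosure O K)) [P.IsMaximal] :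
    P.comap (algebraMap O ↥(integralClosure O K)) = IsLocalRing.maximalIdeal O :=
  IsLocalRing.eq_maximalIdeal (Ideal.isMaximal_comap_of_isIntegral_of_isMaximal P)

theorem finite_maximals (hfin : Module.Finite O ↥(integralClosure O K)) :
    {P : Ideal ↥(integralClosure O K) | P.IsMaximal}.Finite := by
  haveI := hfin
  refine (Algebra.QuasiFinite.finite_primesOver (S := ↥(integralClosure O K))
    (IsLocalRing.maximalIdeal O)).subset ?_
  intro P hP
  haveI : P.IsMaximal := hP
  exact ⟨hP.isPrime, ⟨(comap_of_isMaximal O K P).symm⟩⟩

/-- The extension of the maximal ideal to the normalisation is generated by an element of it. -/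
theorem exists_generic_element [IsAlgClosed (IsLocalRing.ResidueField O)] (hdim : ringKrullDim O = 1)
    (hfin : Module.Finite O ↥(integralClosure O K)) :
    ∃ x ∈ IsLocalRing.maximalIdeal O, x ≠ 0 ∧
      (IsLocalRing.maximalIdeal O).map (algebraMap O ↥(integralClosure O K)) =
        Ideal.span {algebraMap O ↥(integralClosure O K) x} := by
  classical
  haveI := hfin
  let T := ↥(integralClosure O K)
  haveI := isPrincipalIdealRing_normalization O K hdim hfin
  set I := (IsLocalRing.maximalIdeal O).map (algebraMap O T) with hI
  obtain ⟨y, hy⟩ := IsPrincipalIdealRing.principal I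
  rw [← Ideal.span] at hy
  let s := (finite_maximals O K hfin).toFinset
  let f : IsLocalRing.maximalIdeal O →ₗ[O] T := (Algebra.linearMap O T).comp (Submodule.subtype _)
  let S : Ideal T → Submodule O (IsLocalRing.maximalIdeal O) := fun P =>
    ((P * I).restrictScalars O).comap f
  have hy0 : y ≠ 0 := by
    rintro rfl
    obtain ⟨a, ha, ha0⟩ := Submodule.exists_mem_ne_zero_of_ne_bot
      (fun h => not_isField O hdim (IsLocalRing.isField_iff_maximalIdeal_eq.mpr h) :
        IsLocalRing.maximalIdeal O ≠ ⊥)
    have : algebraMap O T a ∈ I := Ideal.mem_map_of_mem _ ha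
    rw [hy, Ideal.mem_span_singleton, zero_dvd_iff] at this
    exact ha0 ((FaithfulSMul.algebraMap_injective O T) (this.trans (map_zero _).symm))
  have hS : ∀ P ∈ s, S P ≠ ⊤ := by
    intro P hP htop
    have hPm : P.IsMaximal := (finite_maximals O K hfin).mem_toFinset.mp hP
    have : I ≤ P * I := Ideal.map_le_iff_le_comap.mpr fun a ha =>
      (htop.symm ▸ Submodule.mem_top : (⟨a, ha⟩ : IsLocalRing.maximalIdeal O) ∈ S P)
    have hmem : y ∈ P * Ideal.span {y} := hy ▸ this (hy ▸ Ideal.mem_span_singleton_self y)
    obtain ⟨z, hz, hzy⟩ := Ideal.mem_mul_span_singleton.mp hmem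
    have : z = 1 := mul_right_cancel₀ hy0 (hzy.trans (one_mul y).symm)
    exact hPm.ne_top ((Ideal.eq_top_iff_one _).mpr (this ▸ hz))
  obtain ⟨⟨x, hx⟩, hxS⟩ := exists_avoid s S hS
  have hxI : algebraMap O T x ∈ I := Ideal.mem_map_of_mem _ hx
  rw [hy, Ideal.mem_span_singleton'] at hxI
  obtain ⟨u, hu⟩ := hxI
  have huu : IsUnit u := by
    by_contra hnu
    obtain ⟨P, hPm, huP⟩ := exists_max_ideal_of_mem_nonunits (mem_nonunits_iff.mpr hnu)
    refine hxS P ((finite_maximals O K hfin).mem_toFinset.mpr hPm) ?_
    show algebraMap O T x ∈ P * I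
    rw [← hu, hy]
    exact Ideal.mul_mem_mul huP (Ideal.mem_span_singleton_self y)
  have hx0 : algebraMap O T x ≠ 0 := hu ▸ mul_ne_zero huu.ne_zero hy0
  refine ⟨x, hx, fun h => hx0 (by rw [h, map_zero]), ?_⟩
  show I = _
  rw [← hu, Ideal.span_singleton_mul_left_unit huu, hy]

/-- The standard lattice. -/
def stdLattice (n : ℕ) (S : Submodule O K) : Submodule O (Fin n → K) := Submodule.pi Set.univ fun _ => S

omit [IsNoetherianRing O] [IsLocalRing O] in
/-- A torsion-free finite module embeds in `K^n` as a submodule spanning everything. -/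
theorem exists_embedding (M : Type u) [AddCommGroup M] [Module O M] [NoZeroSMulDivisors O M] (n : ℕ)
    (hn : Module.finrank K (TensorProduct O K M) = n) [Module.Finite O M] :
    ∃ φ : M →ₗ[O] (Fin n → K), Function.Injective φ ∧ Submodule.span K (Set.range φ) = ⊤ := by
  let ι := (TensorProduct.mk O K M 1)
  haveI : IsLocalizedModule (nonZeroDivisors O) ι := (isLocalizedModule_iff_isBaseChange _ K _).mpr
    (TensorProduct.isBaseChange O M K)
  let e : TensorProduct O K M ≃ₗ[K] (Fin n → K) :=
    LinearEquiv.ofFinrankEq _ _ (by rw [hn, Module.finrank_fin_fun])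
  refine ⟨(e.toLinearMap.restrictScalars O).comp ι, e.injective.comp ?_, ?_⟩
  · intro a b h
    obtain ⟨c, hc⟩ := (IsLocalizedModule.eq_iff_exists (nonZeroDivisors O) ι).mp h
    exact smul_right_injective M (nonZeroDivisors.coe_ne_zero c) hc
  · rw [LinearMap.coe_comp, Set.range_comp]
    show Submodule.span K (e.toLinearMap '' Set.range ι) = ⊤
    rw [← Submodule.map_span, show Submodule.span K (Set.range ι) = ⊤ from ?_, Submodule.map_top,
      LinearEquiv.range]
    rw [eq_top_iff]
    rintro t -
    induction t using TensorProduct.induction_on with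
    | zero => exact zero_mem _
    | tmul c m =>
      have : c ⊗ₜ[O] m = c • ι m := by
        show _ = c • ((1 : K) ⊗ₜ[O] m)
        rw [TensorProduct.smul_tmul', smul_eq_mul, mul_one]
      rw [this]
      exact Submodule.smul_mem _ _ (Submodule.subset_span ⟨m, rfl⟩)
    | add a b ha hb => exact add_mem ha hb

open Matrix in
/-- A torsion-free module of rank `n` lies between `O^n` and the normalisation of it. -/
theorem exists_between [IsAlgClosed (IsLocalRing.ResidueField O)] (hdim : ringKrullDim O = 1)
    (hfin : Module.Finite O ↥(integralClosure O K)) (M : Type u) [AddCommGroup M] [Module O M] [Module.Finite O M]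
    [NoZeroSMulDivisors O M] (n : ℕ) (hn : Module.finrank K (TensorProduct O K M) = n) :
    ∃ M' : Submodule O (Fin n → K), stdLattice O K n 1 ≤ M' ∧
      M' ≤ stdLattice O K n (Subalgebra.toSubmodule (integralClosure O K)) ∧ Nonempty (M ≃ₗ[O] ↥M') := by
  classical
  haveI := hfin
  obtain ⟨φ, hφ, hspan⟩ := exists_embedding O K M n hn
  let T := ↥(integralClosure O K)
  haveI := isPrincipalIdealRing_normalization O K hdim hfin
  haveI : IsFractionRing T K := integralClosure.isFractionRing_of_finite_extension K K
  let L : Submodule T (Fin n → K) := Submodule.span T (Set.range φ)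
  haveI : Module.Finite T L := by
    rw [Module.Finite.iff_fg]
    obtain ⟨s, hs⟩ := Module.Finite.fg_top (R := O) (M := M)
    refine ⟨s.image φ, le_antisymm (Submodule.span_mono (by simp)) (Submodule.span_le.mpr ?_)⟩
    rintro _ ⟨m, rfl⟩
    have hm : φ m ∈ Submodule.span O (φ '' (s : Set M)) := by
      rw [← Submodule.map_span, hs]
      exact ⟨m, trivial, rfl⟩
    rw [Finset.coe_image]
    exact Submodule.span_subset_span O T _ hm
  haveI : Module.Free T L := Module.free_of_finite_type_torsion_free'
  let b := Module.Free.chooseBasis T L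
  have hbK : LinearIndependent K (fun i => (b i : Fin n → K)) :=
    LinearIndependent.iff_fractionRing T K |>.mp (b.linearIndependent.map' L.subtype L.ker_subtype)
  have hbspan : ⊤ ≤ Submodule.span K (Set.range fun i => (b i : Fin n → K)) := by
    rw [← hspan, Submodule.span_le]
    rintro _ ⟨m, rfl⟩
    have hm : (⟨φ m, Submodule.subset_span ⟨m, rfl⟩⟩ : L) ∈ Submodule.span T (Set.range b) := by
      rw [b.span_eq]; trivial
    have := Submodule.apply_mem_span_image_of_mem_span L.subtype hm
    rw [← Set.range_comp] at this
    exact Submodule.span_subset_span T K _ this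
  let bK := Module.Basis.mk hbK hbspan
  haveI : Fintype (Module.Free.ChooseBasisIndex T L) := Module.Free.ChooseBasisIndex.fintype T L
  have hcard : Fintype.card (Module.Free.ChooseBasisIndex T L) = n := by
    rw [← Module.finrank_eq_card_basis bK, Module.finrank_fin_fun]
  let c : M →ₗ[O] (Fin n → T) :=
    (((b.reindex (Fintype.equivFinOfCardEq hcard)).equivFun.toLinearMap).restrictScalars O).comp
      (φ.codRestrict (L.restrictScalars O) fun m => Submodule.subset_span ⟨m, rfl⟩)
  have hcgen : Submodule.span T (Set.range c) = ⊤ := by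
    have h1 : Submodule.span T (Set.range fun m => (⟨φ m, Submodule.subset_span ⟨m, rfl⟩⟩ : L)) = ⊤ :=
      eq_top_iff.mpr fun x _ => by
        obtain ⟨x, hx⟩ := x
        induction hx using Submodule.span_induction with
        | mem y hy =>
          obtain ⟨m, rfl⟩ := hy
          exact Submodule.subset_span ⟨m, rfl⟩
        | zero => exact zero_mem _
        | add y z hy hz iy iz => exact add_mem (iy trivial) (iz trivial)
        | smul r y hy iy => exact Submodule.smul_mem _ r (iy trivial)
    have h2 := congrArg (Submodule.map (b.reindex (Fintype.equivFinOfCardEq hcard)).equivFun.toLinearMap) h1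
    rw [Submodule.map_span, Submodule.map_top, LinearEquiv.range, ← Set.range_comp] at h2
    exact h2
  -- greedy choice, independent modulo every maximal ideal
  have hchoice : ∀ j ≤ n, ∃ m : Fin j → M, ∀ P : Ideal T, P.IsMaximal →
      LinearIndependent (T ⧸ P) (fun l i => Ideal.Quotient.mk P (c (m l) i)) := by
    intro j
    induction j with
    | zero => exact fun _ => ⟨Fin.elim0, fun P _ => linearIndependent_empty_type⟩
    | succ j ih =>
      intro hj
      obtain ⟨m, hm⟩ := ih (Nat.le_of_succ_le hj)
      let q : (P : Ideal T) → M →ₗ[O] (Fin n → T ⧸ P) := fun P =>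
        (LinearMap.pi fun i => (Ideal.Quotient.mkₐ O P).toLinearMap.comp ((LinearMap.proj i).comp c))
      let W : (P : Ideal T) → Submodule (T ⧸ P) (Fin n → T ⧸ P) := fun P =>
        Submodule.span (T ⧸ P) (Set.range fun l => q P (m l))
      let S : Ideal T → Submodule O M := fun P => ((W P).restrictScalars O).comap (q P)
      obtain ⟨x, hx⟩ := exists_avoid (finite_maximals O K hfin).toFinset S fun P hP htop => by
        haveI hPm : P.IsMaximal := (finite_maximals O K hfin).mem_toFinset.mp hP
        letI := Ideal.Quotient.field P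
        have hW : W P = ⊤ := by
          refine eq_top_iff.mpr fun v _ => ?_
          choose w hw using fun i => Ideal.Quotient.mk_surjective (v i)
          have hwc : w ∈ Submodule.span T (Set.range c) := hcgen ▸ Submodule.mem_top
          rw [show v = fun i => Ideal.Quotient.mk P (w i) from funext fun i => (hw i).symm]
          clear hw
          induction hwc using Submodule.span_induction with
          | mem y hy =>
            obtain ⟨m', rfl⟩ := hy
            exact (htop.symm ▸ Submodule.mem_top : m' ∈ S P)
          | zero => exact (congrArg (· ∈ W P) (funext fun i => map_zero _)).mpr (zero_mem _)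
          | add y z _ _ iy iz => exact (congrArg (· ∈ W P) (funext fun i => map_add _ _ _)).mpr (add_mem iy iz)
          | smul r y _ iy =>
            exact (congrArg (· ∈ W P) (funext fun i => map_mul (Ideal.Quotient.mk P) r (y i))).mpr
              (Submodule.smul_mem _ (Ideal.Quotient.mk P r) iy)
        have := finrank_range_le_card (R := T ⧸ P) (fun l => q P (m l))
        rw [Set.finrank, show Submodule.span (T ⧸ P) (Set.range fun l => q P (m l)) = ⊤ from hW, finrank_top,
          Module.finrank_fin_fun, Fintype.card_fin] at this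
        omega
      refine ⟨Fin.snoc m x, fun P hP => ?_⟩
      letI := Ideal.Quotient.field P
      have hxS := hx P ((finite_maximals O K hfin).mem_toFinset.mpr hP)
      rw [show (fun l i => Ideal.Quotient.mk P (c ((Fin.snoc m x : Fin (j + 1) → M) l) i)) =
        (Fin.snoc (fun l i => Ideal.Quotient.mk P (c (m l) i)) (q P x) : Fin (j + 1) → Fin n → T ⧸ P) from
          funext fun l => by
            refine Fin.lastCases ?_ (fun l => ?_) l
            · simp only [Fin.snoc_last]; rfl
            · simp only [Fin.snoc_castSucc]]
      exact linearIndependent_finSnoc.mpr ⟨hm P hP, hxS⟩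
  obtain ⟨m, hm⟩ := hchoice n le_rfl
  let A : Matrix (Fin n) (Fin n) T := Matrix.of fun l i => c (m l) i
  have hA : IsUnit A.det := by
    by_contra hnu
    obtain ⟨P, hPm, hP⟩ := exists_max_ideal_of_mem_nonunits (mem_nonunits_iff.mpr hnu)
    letI := Ideal.Quotient.field P
    have : IsUnit ((A.map (Ideal.Quotient.mk P)).det) :=
      (Matrix.isUnit_iff_isUnit_det _).mp (Matrix.linearIndependent_rows_iff_isUnit.mp (hm P hPm))
    rw [← RingHom.mapMatrix_apply, ← RingHom.map_det] at this
    exact this.ne_zero (Ideal.Quotient.eq_zero_iff_mem.mpr hP)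
  let Ψ : M →ₗ[O] (Fin n → T) := ((A⁻¹.vecMulLinear).restrictScalars O).comp c
  let Φ : M →ₗ[O] (Fin n → K) :=
    (LinearMap.pi fun i => (Subalgebra.toSubmodule (integralClosure O K)).subtype.comp (LinearMap.proj i)).comp Ψ
  have hc : Function.Injective c := fun p q h => by
    have := (b.reindex (Fintype.equivFinOfCardEq hcard)).equivFun.injective h
    exact hφ (congrArg Subtype.val this)
  have hΨ : Function.Injective Ψ := fun p q h => hc (by
    have h' : c p ᵥ* A⁻¹ ᵥ* A = c q ᵥ* A⁻¹ ᵥ* A := congrArg (fun v => v ᵥ* A) h
    rwa [Matrix.vecMul_vecMul, Matrix.vecMul_vecMul, Matrix.nonsing_inv_mul A hA, Matrix.vecMul_one,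
      Matrix.vecMul_one] at h')
  have hΦ : Function.Injective Φ := fun p q h => hΨ (funext fun i => Subtype.ext (congrFun h i))
  refine ⟨LinearMap.range Φ, ?_, ?_, ⟨LinearEquiv.ofInjective Φ hΦ⟩⟩
  · intro v hv
    have h1 : ∀ l, Φ (m l) = Pi.single l 1 := fun l => funext fun i => by
      have : Ψ (m l) = Pi.single l 1 := by
        funext i
        show (A l ᵥ* A⁻¹) i = _
        rw [show (A l ᵥ* A⁻¹) i = (A * A⁻¹) l i from rfl, Matrix.mul_nonsing_inv A hA, Matrix.one_apply,
          Pi.single_apply]
        simp [eq_comm]
      show ((Ψ (m l) i : T) : K) = _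
      rw [this, Pi.single_apply, Pi.single_apply]
      split_ifs <;> rfl
    choose a ha using fun i => Submodule.mem_one.mp (hv i trivial)
    refine ⟨∑ i, a i • m i, ?_⟩
    rw [map_sum]
    funext i
    simp [h1, Finset.sum_apply, Pi.single_apply, Algebra.smul_def, ← ha i]
  · rintro _ ⟨p, rfl⟩ i -
    exact (Ψ p i).2

end norm

end Groth.Agent.H23TFCurv
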