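import Mathlib.RingTheory.PowerSeries.Order
import Mathlib.RingTheory.PowerSeries.Inverse
import Mathlib.RingTheory.Finiteness.Basic
import Mathlib.RingTheory.Adjoin.Basic
import Mathlib.LinearAlgebra.Dimension.Constructions

/-!
# Submodules over closed subalgebras of power series
-/

set_option autoImplicit false

noncomputable section

universe u

open PowerSeries

namespace Groth.Agent.H23TFCurv

variable {k : Type u} [Field k] {A : Subalgebra k (PowerSeries k)}

/-- A subalgebra over which the power series are finite contains a nonzero element of positive order. -/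
theorem exists_pos_order (hA : Module.Finite A (PowerSeries k)) :
    ∃ a : PowerSeries k, a ∈ A ∧ ∃ d : ℕ, 0 < d ∧ PowerSeries.order a = d := by
  by_contra hne
  push Not at hne
  have hconst : ∀ a ∈ A, a = C (constantCoeff a) := by
    intro a ha
    by_contra h
    set b := a - C (constantCoeff a) with hb
    have hb0 : b ≠ 0 := sub_ne_zero.mpr h
    obtain ⟨m, hm⟩ := ENat.ne_top_iff_exists.mp (mt order_eq_top.mp hb0)
    refine hne b (A.sub_mem ha ?_) m ?_ hm.symm
    · rw [← algebraMap_eq]
      exact A.algebraMap_mem _
    · by_contra h0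
      have := (order_eq_nat.mp hm.symm).1
      rw [show m = 0 by omega, coeff_zero_eq_constantCoeff_apply, hb, map_sub, constantCoeff_C, sub_self] at this
      exact this rfl
  classical
  obtain ⟨s, hs⟩ := hA.fg_top
  have hfin : Submodule.span k (s : Set (PowerSeries k)) = ⊤ := by
    refine eq_top_iff.mpr ?_
    rintro f -
    have hf : f ∈ Submodule.span A (s : Set (PowerSeries k)) := hs.ge Submodule.mem_top
    induction hf using Submodule.span_induction with
    | mem x hx => exact Submodule.subset_span hx
    | zero => exact zero_mem _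
    | add x y _ _ hx hy => exact add_mem hx hy
    | smul r x _ hx =>
      rw [show r • x = constantCoeff (r : PowerSeries k) • x by
        rw [Subalgebra.smul_def, smul_eq_mul, smul_eq_C_mul]
        conv_lhs => rw [hconst r.1 r.2]]
      exact Submodule.smul_mem _ _ hx
  haveI : Module.Finite k (PowerSeries k) := ⟨⟨s, hfin⟩⟩
  let φ : PowerSeries k →ₗ[k] (Fin (Module.finrank k (PowerSeries k) + 1) → k) :=
    { toFun := fun f i => coeff i.1 f
      map_add' := fun f g => by funext i; simp
      map_smul' := fun c f => by funext i; simp }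
  have hφ : Function.Surjective φ := fun v =>
    ⟨PowerSeries.mk fun n => if h : n < Module.finrank k (PowerSeries k) + 1 then v ⟨n, h⟩ else 0, by
      funext i
      simp [φ]
      intro h
      omega⟩
  have := φ.finrank_le_finrank_of_surjective hφ
  rw [Module.finrank_fintype_fun_eq_card, Fintype.card_fin] at this
  omega

/-- A submodule over a closed subalgebra with all large orders contains all series of large order. -/
theorem mem_of_orders (hA : Module.Finite A (PowerSeries k))
    (hcl : ∀ f : PowerSeries k, (∀ n : ℕ, ∃ g ∈ A, (n : ℕ∞) ≤ order (f - g)) → f ∈ A)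
    (N : Submodule A (PowerSeries k)) (c : ℕ) (hc : ∀ n, c ≤ n → ∃ f ∈ N, order f = n)
    (g : PowerSeries k) (hg : ∀ i < c, coeff i g = 0) : g ∈ N := by
  classical
  obtain ⟨a, haA, d, hd, had⟩ := exists_pos_order hA
  choose f hfN hfo using fun r : Fin d => hc (c + r.1) (Nat.le_add_right _ _)
  have hgr : ∀ q (r : Fin d), order (a ^ q * f r) = ((c + q * d + r.1 : ℕ) : ℕ∞) := by
    intro q r
    rw [order_mul, order_pow, had, hfo]
    push_cast
    rw [nsmul_eq_mul]
    ring
  -- cancel the next block of coefficients
  have step : ∀ q (h : PowerSeries k), (∀ i < c + q * d, coeff i h = 0) → ∀ j, j ≤ d →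
      ∃ l : Fin d → k, ∀ i < c + q * d + j, coeff i (h - ∑ r, C (l r) * (a ^ q * f r)) = 0 := by
    intro q h hh j
    induction j with
    | zero => exact fun _ => ⟨fun _ => 0, fun i hi => by simp [hh i (by omega)]⟩
    | succ j ih =>
      intro hj
      obtain ⟨l, hl⟩ := ih (by omega)
      obtain ⟨h1, h2⟩ := order_eq_nat.mp (hgr q ⟨j, by omega⟩)
      set t := coeff (c + q * d + j) (h - ∑ r, C (l r) * (a ^ q * f r)) / coeff (c + q * d + j) (a ^ q * f ⟨j, by omega⟩)
      refine ⟨l + Pi.single ⟨j, by omega⟩ t, fun i hi => ?_⟩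
      have : h - ∑ r, C ((l + Pi.single (⟨j, by omega⟩ : Fin d) t : Fin d → k) r) * (a ^ q * f r) =
          h - ∑ r, C (l r) * (a ^ q * f r) - C t * (a ^ q * f ⟨j, by omega⟩) := by
        simp only [Pi.add_apply, map_add, add_mul, Finset.sum_add_distrib, ← sub_sub]
        congr 1
        rw [Finset.sum_eq_single (⟨j, by omega⟩ : Fin d) (fun r _ hr => by simp [hr]) (by simp)]
        simp
      rw [this, map_sub, coeff_C_mul]
      rcases lt_or_eq_of_le (Nat.lt_succ_iff.mp (show i < (c + q * d + j).succ by omega)) with hlt | rfl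
      · rw [hl i hlt, h2 i hlt, mul_zero, sub_zero]
      · rw [div_mul_cancel₀ _ h1, sub_self]
  choose! lam hlam using fun q h (hh : ∀ i < c + q * d, coeff i h = 0) => step q h hh d le_rfl
  let rem : ℕ → PowerSeries k := fun q => Nat.rec g (fun q h => h - ∑ r, C (lam q h r) * (a ^ q * f r)) q
  have hremS : ∀ q, rem (q + 1) = rem q - ∑ r, C (lam q (rem q) r) * (a ^ q * f r) := fun q => rfl
  have hrem : ∀ q, ∀ i < c + q * d, coeff i (rem q) = 0 := by
    intro q
    induction q with
    | zero => exact fun i hi => hg i (by simpa using hi)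
    | succ q ih => exact fun i hi => hlam q (rem q) ih i (by rw [Nat.succ_mul] at hi; omega)
  let P : Fin d → ℕ → PowerSeries k := fun r q => ∑ q' ∈ Finset.range q, C (lam q' (rem q') r) * a ^ q'
  have hP : ∀ r q, P r q ∈ A := fun r q => sum_mem fun q' _ => A.mul_mem
    (by rw [← algebraMap_eq]; exact A.algebraMap_mem _) (pow_mem haA _)
  have hdec : ∀ q, g - ∑ r, P r q * f r = rem q := by
    intro q
    induction q with
    | zero => simp [P, rem]
    | succ q ih =>
      have hs : ∀ r, P r (q + 1) * f r = P r q * f r + C (lam q (rem q) r) * (a ^ q * f r) := fun r => by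
        rw [← mul_assoc, ← add_mul]
        exact congrArg (· * f r) (Finset.sum_range_succ _ _)
      rw [Finset.sum_congr rfl fun r _ => hs r, Finset.sum_add_distrib, ← sub_sub, ih, hremS]
  have ha0 : ∀ q i, i < q * d → coeff i (a ^ q) = 0 := fun q i hi => coeff_of_lt_order i (by
    rw [order_pow, had, nsmul_eq_mul]
    exact_mod_cast hi)
  have hstab : ∀ r i q q', i < q → q ≤ q' → coeff i (P r q') = coeff i (P r q) := by
    intro r i q q' hi hq
    induction q', hq using Nat.le_induction with
    | base => rfl
    | succ m hm ih =>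
      simp only [P, Finset.sum_range_succ, map_add] at ih ⊢
      rw [coeff_C_mul, ha0 m i (lt_of_lt_of_le (show i < m by omega) (Nat.le_mul_of_pos_right m hd)), mul_zero, add_zero, ih]
  let L : Fin d → PowerSeries k := fun r => PowerSeries.mk fun i => coeff i (P r (i + 1))
  have hL : ∀ r n i, i < n → coeff i (L r) = coeff i (P r n) := fun r n i hi => by
    rw [coeff_mk]
    exact (hstab r i (i + 1) n (by omega) hi).symm
  have hLA : ∀ r, L r ∈ A := fun r => hcl _ fun n => ⟨P r n, hP r n, nat_le_order _ _ fun i hi => by
    rw [map_sub, hL r n i hi, sub_self]⟩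
  have heq : g = ∑ r, L r * f r := by
    ext n
    have h1 : coeff n (g - ∑ r, P r (n + 1) * f r) = 0 := by
      rw [hdec]
      exact hrem (n + 1) n (by
        have := Nat.le_mul_of_pos_right (n + 1) hd; omega)
    rw [map_sub, sub_eq_zero] at h1
    rw [h1, map_sum, map_sum]
    refine Finset.sum_congr rfl fun r _ => ?_
    rw [coeff_mul, coeff_mul]
    exact Finset.sum_congr rfl fun x hx => by
      rw [hL r (n + 1) x.1 (by have := Finset.mem_antidiagonal.mp hx; omega)]
  rw [heq]
  exact N.sum_mem fun r _ => N.smul_mem ⟨L r, hLA r⟩ (hfN r)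

end Groth.Agent.H23TFCurv
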