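import Mathlib.RingTheory.Length
import Mathlib.RingTheory.LocalRing.ResidueField.Basic
import Mathlib.FieldTheory.IsAlgClosed.Basic
import Mathlib.RingTheory.IntegralClosure.IsIntegralClosure.Basic
import Mathlib.RingTheory.Finiteness.Ideal
import Mathlib.RingTheory.SimpleModule.Basic
import Mathlib.RingTheory.Ideal.GoingUp
import Mathlib.RingTheory.Noetherian.Basic

/-!
# Colengths of submodules
-/

set_option autoImplicit false
set_option linter.style.haveILetI false

noncomputable section

universe u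

namespace Groth.Agent.H23TFCurv

variable {O : Type u} [CommRing O] {V W : Type u} [AddCommGroup V] [Module O V] [AddCommGroup W] [Module O W]

/-- The length of `C / (A ∩ C)`. -/
def qlen (C A : Submodule O V) : ℕ∞ := Module.length O (↥C ⧸ A.comap C.subtype)

theorem qlen_chain {A B C : Submodule O V} (h₁ : A ≤ B) (h₂ : B ≤ C) : qlen C A = qlen B A + qlen C B := by
  refine Module.length_eq_add_of_exact (Submodule.mapQ _ _ (Submodule.inclusion h₂) (fun x hx => hx))
    (Submodule.factor (Submodule.comap_mono h₁)) ?_ (Submodule.factor_surjective _) ?_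
  · rw [← LinearMap.ker_eq_bot, Submodule.ker_mapQ]
    refine (Submodule.eq_bot_iff _).mpr ?_
    rintro _ ⟨x, hx, rfl⟩
    exact (Submodule.Quotient.mk_eq_zero _).mpr hx
  · intro y
    obtain ⟨y, rfl⟩ := Submodule.Quotient.mk_surjective _ y
    constructor
    · intro hy
      have hyB : y.1 ∈ B := (Submodule.Quotient.mk_eq_zero (B.comap C.subtype)).mp hy
      exact ⟨Submodule.Quotient.mk ⟨y.1, hyB⟩, rfl⟩
    · rintro ⟨z, hz⟩
      obtain ⟨z, rfl⟩ := Submodule.Quotient.mk_surjective _ z
      rw [← hz]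
      exact (Submodule.Quotient.mk_eq_zero (B.comap C.subtype)).mpr z.2

theorem qlen_map_le (f : V →ₗ[O] W) (C A : Submodule O V) : qlen (C.map f) (A.map f) ≤ qlen C A := by
  let g : ↥C →ₗ[O] ↥(C.map f) := LinearMap.codRestrict _ (f ∘ₗ C.subtype) fun x => ⟨x.1, x.2, rfl⟩
  refine Module.length_le_of_surjective (Submodule.mapQ _ _ g (fun x hx => ⟨x.1, hx, rfl⟩)) fun y => ?_
  obtain ⟨⟨y, x, hx, rfl⟩, rfl⟩ := Submodule.Quotient.mk_surjective _ y
  exact ⟨Submodule.Quotient.mk ⟨x, hx⟩, rfl⟩

theorem qlen_map_of_injective (f : V →ₗ[O] W) (hf : Function.Injective f) (C A : Submodule O V) :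
    qlen (C.map f) (A.map f) = qlen C A := by
  refine ((Submodule.Quotient.equiv _ _ (Submodule.equivMapOfInjective f hf C) ?_).length_eq).symm
  ext ⟨y, x, hx, rfl⟩
  constructor
  · rintro ⟨z, hz, hzy⟩
    exact ⟨z.1, hz, congrArg Subtype.val hzy⟩
  · rintro ⟨z, hz, hzy⟩
    exact ⟨⟨x, hx⟩, show x ∈ A from (hf hzy) ▸ hz, rfl⟩

variable [IsLocalRing O] [IsAlgClosed (IsLocalRing.ResidueField O)] {T : Type u} [CommRing T] [Algebra O T]
  [Module.Finite O T]

theorem length_simple (P : Ideal T) [P.IsMaximal] : Module.length O (T ⧸ P) = 1 := by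
  letI := Ideal.Quotient.field P
  have hs : Function.Surjective (algebraMap O (T ⧸ P)) := by
    have hm : P.comap (algebraMap O T) = IsLocalRing.maximalIdeal O :=
      IsLocalRing.eq_maximalIdeal (Ideal.isMaximal_comap_of_isIntegral_of_isMaximal P)
    let φ : IsLocalRing.ResidueField O →+* T ⧸ P :=
      Ideal.Quotient.lift _ (algebraMap O (T ⧸ P)) fun a ha => by
        rw [IsScalarTower.algebraMap_apply O T (T ⧸ P), Ideal.Quotient.algebraMap_eq, Ideal.Quotient.eq_zero_iff_mem]
        exact hm.ge ha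
    letI := φ.toAlgebra
    haveI : IsScalarTower O (IsLocalRing.ResidueField O) (T ⧸ P) := IsScalarTower.of_algebraMap_eq fun a => rfl
    haveI : Module.Finite (IsLocalRing.ResidueField O) (T ⧸ P) := Module.Finite.of_restrictScalars_finite O _ _
    intro x
    obtain ⟨z, hz⟩ := (IsAlgClosed.algebraMap_bijective_of_isIntegral (k := IsLocalRing.ResidueField O) (K := T ⧸ P)).2 x
    obtain ⟨a, rfl⟩ := IsLocalRing.residue_surjective z
    exact ⟨a, hz⟩
  rw [Module.length_eq_of_surjective (M := T ⧸ P) hs, Module.length_eq_one]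

variable [Module T V] [IsScalarTower O T V]

/-- There are stable submodules of every possible colength. -/
theorem exists_colength {L Z : Submodule T V} (hLZ : L ≤ Z) (hZ : Z.FG) [IsNoetherianRing T] (d : ℕ)
    (hd : (d : ℕ∞) ≤ qlen (Z.restrictScalars O) (L.restrictScalars O)) :
    ∃ L' : Submodule T V, L ≤ L' ∧ L' ≤ Z ∧ qlen (Z.restrictScalars O) (L'.restrictScalars O) = d := by
  induction d with
  | zero =>
    refine ⟨Z, hLZ, le_rfl, ?_⟩
    rw [Nat.cast_zero]
    refine Module.length_eq_zero_iff.mpr (Submodule.Quotient.subsingleton_iff.mpr (eq_top_iff.mpr fun x _ => x.2))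
  | succ d ih =>
    obtain ⟨L', h1, h2, h3⟩ := ih (le_trans (by exact_mod_cast d.le_succ) hd)
    have hne : L ≠ L' := by
      rintro rfl
      rw [h3] at hd
      have : d + 1 ≤ d := by exact_mod_cast hd
      omega
    haveI : IsNoetherian T ↥Z := isNoetherian_of_fg_of_noetherian Z hZ
    haveI : Module.Finite T ↥L' := Module.Finite.of_injective (Submodule.inclusion h2) (Submodule.inclusion_injective h2)
    have hprop : L.comap L'.subtype ≠ ⊤ := fun h => hne (le_antisymm h1 fun x hx => (h.ge (Submodule.mem_top (x := (⟨x, hx⟩ : L'))) :))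
    obtain ⟨m, hm, hmle⟩ := (eq_top_or_exists_le_coatom (L.comap L'.subtype)).resolve_left hprop
    haveI : IsSimpleModule T (↥L' ⧸ m) := isSimpleModule_iff_isCoatom.mpr hm
    obtain ⟨P, hP, ⟨e⟩⟩ := isSimpleModule_iff_quot_maximal.mp (inferInstance : IsSimpleModule T (↥L' ⧸ m))
    let N := m.map L'.subtype
    have hN1 : N ≤ L' := Submodule.map_subtype_le _ _
    refine ⟨N, fun x hx => ⟨⟨x, h1 hx⟩, hmle hx, rfl⟩, hN1.trans h2, ?_⟩
    rw [qlen_chain (B := L'.restrictScalars O) hN1 h2, h3, Nat.cast_add, Nat.cast_one, add_comm]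
    congr 1
    rw [← length_simple (O := O) P, ← (e.restrictScalars O).length_eq]
    let q : ↥(L'.restrictScalars O) →ₗ[O] ↥L' ⧸ m :=
      (m.mkQ.restrictScalars O) ∘ₗ (Submodule.restrictScalarsEquiv O T V L').toLinearMap.restrictScalars O
    refine ((Submodule.quotEquivOfEq _ _ ?_).trans (q.quotKerEquivOfSurjective ?_)).length_eq
    · ext x
      constructor
      · rintro ⟨z, hz, hzx⟩
        obtain rfl : z = (⟨x.1, x.2⟩ : ↥L') := Subtype.ext hzx
        exact (Submodule.Quotient.mk_eq_zero m).mpr hz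
      · intro hx
        exact ⟨⟨x.1, x.2⟩, (Submodule.Quotient.mk_eq_zero m).mp hx, rfl⟩
    · intro y
      obtain ⟨y, rfl⟩ := Submodule.Quotient.mk_surjective _ y
      exact ⟨⟨y.1, y.2⟩, rfl⟩

end Groth.Agent.H23TFCurv
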