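import Groth.Agent.H23TFCurv.Basic
import Mathlib.RingTheory.Length
import Mathlib.RingTheory.Nakayama
import Mathlib.Algebra.Module.SpanRank
import Mathlib.LinearAlgebra.Pi

/-!
# Generators and multiplicity
-/

set_option autoImplicit false
set_option linter.style.haveILetI false

universe u v

namespace Groth.Agent.H23TFCurv

variable {O : Type u} [CommRing O]

/-- A finite-length module has at most length many generators. -/
theorem exists_span_card_le {Q : Type v} [AddCommGroup Q] [Module O Q] (h : IsFiniteLength O Q) :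
    ∃ s : Finset Q, Submodule.span O (s : Set Q) = ⊤ ∧ (s.card : ℕ∞) ≤ Module.length O Q := by
  classical
  induction h with
  | of_subsingleton => exact ⟨∅, Subsingleton.elim _ _, by simp⟩
  | of_simple_quotient h ih =>
    rename_i Q _ _ N _
    obtain ⟨s, hs, hc⟩ := ih
    have hne : N ≠ ⊤ := fun h => by
      haveI := IsSimpleModule.nontrivial O (Q ⧸ N)
      exact absurd h (Submodule.Quotient.nontrivial_iff.mp this)
    obtain ⟨q, hq⟩ : ∃ q, q ∉ N := by
      by_contra hh; push Not at hh; exact hne (Submodule.eq_top_iff'.mpr hh)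
    refine ⟨insert q (s.image N.subtype), ?_, ?_⟩
    · have hco : IsCoatom N := (isSimpleModule_iff_isCoatom).mp ‹_›
      refine hco.2 _ (lt_of_le_of_ne ?_ ?_)
      · calc N = Submodule.span O (N.subtype '' (s : Set N)) := by
              rw [← Submodule.map_span, hs, Submodule.map_top, Submodule.range_subtype]
          _ ≤ _ := Submodule.span_mono (by rw [Finset.coe_insert, Finset.coe_image]; exact Set.subset_insert _ _)
      · intro h
        exact hq (h ▸ Submodule.subset_span (by simp))
    · have h1 : Module.length O Q = Module.length O N + Module.length O (Q ⧸ N) :=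
        Module.length_eq_add_of_exact N.subtype N.mkQ N.injective_subtype N.mkQ_surjective
          (LinearMap.exact_subtype_mkQ N)
      rw [h1, Module.length_eq_one O (Q ⧸ N)]
      refine le_trans (Nat.cast_le.mpr ((Finset.card_insert_le _ _).trans (Nat.succ_le_succ Finset.card_image_le))) ?_
      push_cast
      exact add_le_add hc le_rfl

theorem spanFinrank_le_length [IsLocalRing O] {M : Type v} [AddCommGroup M] [Module O M] [Module.Finite O M]
    {x : O} (hx : x ∈ IsLocalRing.maximalIdeal O) :
    ((⊤ : Submodule O M).spanFinrank : ℕ∞) ≤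
      Module.length O (M ⧸ LinearMap.range (LinearMap.lsmul O M x)) := by
  classical
  by_cases hl : Module.length O (M ⧸ LinearMap.range (LinearMap.lsmul O M x)) = ⊤
  · rw [hl]; exact le_top
  obtain ⟨s, hs, hc⟩ := exists_span_card_le (Module.length_ne_top_iff.mp hl)
  choose g hg using fun q : M ⧸ LinearMap.range (LinearMap.lsmul O M x) => Submodule.mkQ_surjective _ q
  have htop : Submodule.span O ((s.image g : Finset M) : Set M) = ⊤ := by
    refine eq_top_iff.mpr (Submodule.le_of_le_smul_of_le_jacobson_bot (I := IsLocalRing.maximalIdeal O)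
      Module.Finite.fg_top (IsLocalRing.maximalIdeal_le_jacobson _) ?_)
    intro m _
    have hm : (LinearMap.range (LinearMap.lsmul O M x)).mkQ m ∈
        (Submodule.span O ((s.image g : Finset M) : Set M)).map (LinearMap.range (LinearMap.lsmul O M x)).mkQ := by
      rw [Submodule.map_span, Finset.coe_image, ← Set.image_comp]
      rw [show (LinearMap.range (LinearMap.lsmul O M x)).mkQ ∘ g = id from funext hg, Set.image_id, hs]
      trivial
    obtain ⟨w, hw, hwm⟩ := hm
    obtain ⟨z, hz⟩ := (Submodule.Quotient.eq _).mp hwm.symm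
    rw [show m = w + x • z by
      have hz' : x • z = m - w := hz
      rw [hz']; abel]
    exact Submodule.add_mem_sup hw (Submodule.smul_mem_smul hx trivial)
  calc ((⊤ : Submodule O M).spanFinrank : ℕ∞)
      = ((Submodule.span O ((s.image g : Finset M) : Set M)).spanFinrank : ℕ∞) := by rw [htop]
    _ ≤ (((s.image g : Finset M) : Set M).ncard : ℕ∞) :=
        Nat.cast_le.mpr (Submodule.spanFinrank_span_le_ncard_of_finite (Finset.finite_toSet _))
    _ ≤ (s.card : ℕ∞) := by rw [Set.ncard_coe_finset]; exact Nat.cast_le.mpr Finset.card_image_le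
    _ ≤ _ := hc

/-- Finite-index submodules have the same colength of multiples. -/
theorem length_quotient_smul_eq {P : Type v} [AddCommGroup P] [Module O P] (N : Submodule O P) (x : O)
    (hx : Function.Injective (LinearMap.lsmul O P x)) (hfin : Module.length O (P ⧸ N) ≠ ⊤) :
    Module.length O (N ⧸ LinearMap.range (LinearMap.lsmul O N x)) =
      Module.length O (P ⧸ LinearMap.range (LinearMap.lsmul O P x)) := by
  let φ := LinearMap.lsmul O P x
  let xN := N.map φ
  let xP := LinearMap.range φ
  have hle : xN ≤ N := by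
    rintro _ ⟨n, hn, rfl⟩
    exact N.smul_mem x hn
  have hle' : xN ≤ xP := by
    rintro _ ⟨n, -, rfl⟩
    exact ⟨n, rfl⟩
  have key : ∀ U : Submodule O P, xN ≤ U →
      Module.length O (P ⧸ xN) = Module.length O (U ⧸ xN.comap U.subtype) + Module.length O (P ⧸ U) := by
    intro U hU
    refine Module.length_eq_add_of_exact (Submodule.mapQ _ xN U.subtype le_rfl) (Submodule.factor hU) ?_
      (Submodule.factor_surjective hU) ?_
    · rw [← LinearMap.ker_eq_bot, Submodule.ker_mapQ]
      simp
    · intro y
      obtain ⟨y, rfl⟩ := Submodule.mkQ_surjective xN y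
      constructor
      · intro hy
        have hyU : y ∈ U := (Submodule.Quotient.mk_eq_zero U).mp hy
        exact ⟨Submodule.Quotient.mk ⟨y, hyU⟩, rfl⟩
      · rintro ⟨z, hz⟩
        obtain ⟨z, rfl⟩ := Submodule.Quotient.mk_surjective _ z
        rw [← hz]
        exact (Submodule.Quotient.mk_eq_zero U).mpr z.2
  have e1 : Module.length O (N ⧸ LinearMap.range (LinearMap.lsmul O N x)) =
      Module.length O (N ⧸ xN.comap N.subtype) := by
    refine (Submodule.quotEquivOfEq _ _ ?_).length_eq
    ext n
    constructor
    · rintro ⟨z, rfl⟩; exact ⟨z, z.2, rfl⟩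
    · rintro ⟨z, hz, hzn⟩; exact ⟨⟨z, hz⟩, Subtype.ext hzn⟩
  let f : P →ₗ[O] xP ⧸ xN.comap xP.subtype := (xN.comap xP.subtype).mkQ.comp φ.rangeRestrict
  have hker : LinearMap.ker f = N := by
    ext p
    constructor
    · intro hp
      obtain ⟨n, hn, hnp⟩ := (Submodule.Quotient.mk_eq_zero _).mp (LinearMap.mem_ker.mp hp)
      rwa [hx (hnp.trans rfl)] at hn
    · exact fun hp => LinearMap.mem_ker.mpr ((Submodule.Quotient.mk_eq_zero _).mpr ⟨p, hp, rfl⟩)
  have e2 : Module.length O (xP ⧸ xN.comap xP.subtype) = Module.length O (P ⧸ N) := by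
    rw [← ((Submodule.quotEquivOfEq _ _ hker.symm).trans (f.quotKerEquivOfSurjective
      ((Submodule.mkQ_surjective _).comp φ.surjective_rangeRestrict))).length_eq]
  have h := (key N hle).symm.trans (key xP hle')
  rw [← e1, e2, add_comm (Module.length O (P ⧸ N))] at h
  exact ENat.add_left_injective_of_ne_top hfin h

/-- Generators of a module isomorphic to a finite-index submodule. -/
theorem spanFinrank_le_of_equiv [IsLocalRing O] {M : Type v} [AddCommGroup M] [Module O M] [Module.Finite O M]
    {P : Type v} [AddCommGroup P] [Module O P] (N : Submodule O P) (e : M ≃ₗ[O] N) {x : O}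
    (hx : x ∈ IsLocalRing.maximalIdeal O) (hinj : Function.Injective (LinearMap.lsmul O P x))
    (hfin : Module.length O (P ⧸ N) ≠ ⊤) :
    ((⊤ : Submodule O M).spanFinrank : ℕ∞) ≤ Module.length O (P ⧸ LinearMap.range (LinearMap.lsmul O P x)) := by
  refine (spanFinrank_le_length (M := M) hx).trans (le_of_eq ?_)
  rw [← length_quotient_smul_eq N x hinj hfin]
  refine (Submodule.Quotient.equiv _ _ e ?_).length_eq
  ext p
  constructor
  · rintro ⟨_, ⟨w, rfl⟩, rfl⟩
    exact ⟨e w, (map_smul e x w).symm⟩
  · rintro ⟨w, rfl⟩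
    exact ⟨_, ⟨e.symm w, rfl⟩, (map_smul e x (e.symm w)).trans (congrArg (x • ·) (e.apply_symm_apply w))⟩

end Groth.Agent.H23TFCurv
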