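import Groth.Agent.H23TFCurv.ExtOne
import Groth.Agent.H23TFCurv.Mult
import Groth.Agent.H1CAlg.Torsion
import Groth.Agent.S6291
import Mathlib.CategoryTheory.Abelian.Injective.Dimension
import Mathlib.RingTheory.OrderOfVanishing.Basic
import Mathlib.RingTheory.Localization.FractionRing
import Mathlib.RingTheory.SimpleModule.Basic
import Mathlib.RingTheory.KrullDimension.Basic
import Mathlib.RingTheory.Finiteness.Finsupp
import Mathlib.LinearAlgebra.Pi
import Mathlib.LinearAlgebra.Quotient.Pi
import Mathlib.Algebra.BigOperators.Pi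
import Mathlib.Data.ENat.BigOperators
import Mathlib.Algebra.BigOperators.WithTop

/-!
# Duality with respect to a canonical ideal of a one-dimensional local domain
-/

set_option autoImplicit false
set_option linter.style.haveILetI false

noncomputable section

universe u

open CategoryTheory Abelian

namespace Groth.Agent.H23TFCurv

instance instAddCommGroupLinearMapSubmodule {R : Type u} [CommRing R] {P : Type u} [AddCommGroup P] [Module R P]
    (N : Submodule R P) (M : Type u) [AddCommMonoid M] [Module R M] : AddCommGroup (M →ₗ[R] ↥N) :=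
  @LinearMap.addCommGroup R R M ↥N _ _ _ N.addCommGroup _ _ (RingHom.id R)

variable {O : Type u} [CommRing O] [IsDomain O] [IsNoetherianRing O] [IsLocalRing O]
  {K : Type u} [Field K] [Algebra O K] [IsFractionRing O K]

/-- A canonical ideal. -/
structure IsCanonical (ω : Submodule O K) : Prop where
  hdim : ringKrullDim O = 1
  ne_bot : ω ≠ ⊥
  fg : ω.FG
  inj : HasInjectiveDimensionLT (ModuleCat.of O ↥ω) 2

variable (ω : Submodule O K)

/-- The dual of a module. -/
abbrev Dual' (M : Type u) [AddCommGroup M] [Module O M] := M →ₗ[O] ↥ω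

omit [IsNoetherianRing O] [IsLocalRing O] in
theorem smul_eq_zero_omega {a : O} (ha : a ≠ 0) {w : ↥ω} (h : a • w = 0) : w = 0 := by
  have h' : (algebraMap O K a) * (w : K) = 0 := by
    rw [← Algebra.smul_def]
    exact congrArg Subtype.val h
  exact Subtype.ext ((mul_eq_zero.mp h').resolve_left
    fun h0 => ha (IsFractionRing.injective O K (h0.trans (map_zero _).symm)))

variable {ω} (hω : IsCanonical ω)

include hω

omit [IsNoetherianRing O] [IsLocalRing O] in
theorem isNoetherian_omega [IsNoetherianRing O] : Module.Finite O ↥ω := Module.Finite.iff_fg.mpr hω.fg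

theorem finite_dual (M : Type u) [AddCommGroup M] [Module O M] [Module.Finite O M] :
    Module.Finite O (Dual' ω M) := by
  haveI := isNoetherian_omega hω
  infer_instance

theorem noZeroSMul_dual (M : Type u) [AddCommGroup M] [Module O M] : NoZeroSMulDivisors O (Dual' ω M) :=
  ⟨fun {a f} h => or_iff_not_imp_left.mpr fun ha => LinearMap.ext fun m =>
    smul_eq_zero_omega ω ha (LinearMap.congr_fun h m)⟩

/-- Finite torsion modules have finite length. -/
theorem length_ne_top (Q : Type u) [AddCommGroup Q] [Module O Q] [Module.Finite O Q]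
    (ht : ∀ q : Q, ∃ a : O, a ≠ 0 ∧ a • q = 0) : Module.length O Q ≠ ⊤ := by
  classical
  haveI : Ring.KrullDimLE 1 O := Ring.krullDimLE_iff.mpr hω.hdim.le
  obtain ⟨n, π, hπ⟩ := Module.Finite.exists_fin' O Q
  choose a ha0 haq using fun i : Fin n => ht (π (Pi.single i 1))
  let P := Submodule.pi Set.univ fun i : Fin n => (Ideal.span {a i} : Submodule O O)
  have hP : P ≤ LinearMap.ker π := by
    intro v hv
    rw [LinearMap.mem_ker, show v = ∑ i, v i • (Pi.single i (1 : O) : Fin n → O) from pi_eq_sum_univ' v, map_sum]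
    refine Finset.sum_eq_zero fun i _ => ?_
    obtain ⟨c, hc⟩ := Ideal.mem_span_singleton'.mp (hv i trivial)
    rw [map_smul, ← hc, mul_smul, haq, smul_zero]
  refine ne_top_of_le_ne_top ?_ (Module.length_le_of_surjective (P.liftQ π hP) fun q => by
    obtain ⟨v, rfl⟩ := hπ q
    exact ⟨Submodule.Quotient.mk v, rfl⟩)
  rw [(Submodule.quotientPi fun i : Fin n => (Ideal.span {a i} : Submodule O O)).length_eq, Module.length_pi_of_fintype]
  simp only [ne_eq, ENat.sum_eq_top, not_exists, not_and]
  intro i _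
  rw [← ne_eq]
  rw [Module.length_ne_top_iff]
  exact isFiniteLength_quotient_span_singleton O (mem_nonZeroDivisors_iff_ne_zero.mpr (ha0 i))

omit [IsNoetherianRing O] [IsLocalRing O] hω in
/-- Torsion modules have no dual. -/
theorem subsingleton_ext_zero (Q : Type u) [AddCommGroup Q] [Module O Q]
    (ht : ∀ q : Q, ∃ a : O, a ≠ 0 ∧ a • q = 0) : Subsingleton (Ext (ModuleCat.of O Q) (ModuleCat.of O ↥ω) 0) := by
  haveI : Subsingleton (ModuleCat.of O Q ⟶ ModuleCat.of O ↥ω) := subsingleton_of_forall_eq 0 fun f => by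
    refine ModuleCat.hom_ext (LinearMap.ext fun q => ?_)
    obtain ⟨a, ha, haq⟩ := ht q
    exact smul_eq_zero_omega ω ha (by rw [← map_smul, haq, map_zero])
  exact (Ext.addEquiv₀).toEquiv.subsingleton

/-- Torsion-free modules are acyclic for the duality. -/
theorem subsingleton_ext_succ (M : Type u) [AddCommGroup M] [Module O M] [Module.Finite O M]
    [NoZeroSMulDivisors O M] (i : ℕ) : Subsingleton (Ext (ModuleCat.of O M) (ModuleCat.of O ↥ω) (i + 1)) := by
  haveI := hω.inj
  obtain ⟨a, m, v, φ, ha, hφ⟩ := Groth.Agent.H1CAlg.exists_coord_smul O M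
  have hinj : Function.Injective φ := by
    rw [injective_iff_map_eq_zero]
    intro x hx
    have h := hφ x
    rw [hx] at h
    simp only [Pi.zero_apply, zero_smul, Finset.sum_const_zero] at h
    exact (smul_eq_zero.mp h).resolve_left ha
  have hS : (ShortComplex.mk (ModuleCat.ofHom φ) (ModuleCat.ofHom (LinearMap.range φ).mkQ)
      (by ext x; exact congrFun (congrArg DFunLike.coe φ.range_mkQ_comp) x)).ShortExact :=
    ModuleCat.shortComplex_shortExact _ (LinearMap.exact_map_mkQ_range φ) hinj (Submodule.mkQ_surjective _)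
  refine subsingleton_of_forall_eq 0 fun e => ?_
  have hex := Abelian.Ext.contravariant_sequence_exact₁' hS (ModuleCat.of O ↥ω) (i + 1) (i + 1 + 1) (add_comm 1 _)
  rw [ShortComplex.ab_exact_iff] at hex
  obtain ⟨f, hf⟩ := hex e (Abelian.Ext.eq_zero_of_hasInjectiveDimensionLT _ 2 (by omega))
  rw [← hf]
  haveI : Projective (ModuleCat.of O (Fin m → O)) := inferInstance
  rw [Abelian.Ext.eq_zero_of_projective (P := ModuleCat.of O (Fin m → O)) f]
  exact map_zero _

/-- The length of `Ext¹` into a canonical ideal. -/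
def extLen (ω : Submodule O K) (Q : Type u) [AddCommGroup Q] [Module O Q] : ℕ∞ :=
  Module.length O (Ext (ModuleCat.of O Q) (ModuleCat.of O ↥ω) 1)

omit [IsNoetherianRing O] [IsLocalRing O] hω in
theorem extLen_congr {Q Q' : Type u} [AddCommGroup Q] [Module O Q] [AddCommGroup Q'] [Module O Q'] (e : Q ≃ₗ[O] Q') :
    extLen ω Q = extLen ω Q' :=
  (LinearEquiv.ofLinear
    (Ext.precompOfLinear (Ext.mk₀ e.toModuleIso.inv) O (ModuleCat.of O ↥ω) (zero_add 1))
    (Ext.precompOfLinear (Ext.mk₀ e.toModuleIso.hom) O (ModuleCat.of O ↥ω) (zero_add 1))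
    (by refine LinearMap.ext fun x => ?_
        show (Ext.mk₀ e.toModuleIso.inv).comp ((Ext.mk₀ e.toModuleIso.hom).comp x (zero_add 1)) (zero_add 1) = x
        rw [Ext.mk₀_comp_mk₀_assoc, Iso.inv_hom_id, Ext.mk₀_id_comp])
    (by refine LinearMap.ext fun x => ?_
        show (Ext.mk₀ e.toModuleIso.hom).comp ((Ext.mk₀ e.toModuleIso.inv).comp x (zero_add 1)) (zero_add 1) = x
        rw [Ext.mk₀_comp_mk₀_assoc, Iso.hom_inv_id, Ext.mk₀_id_comp])).length_eq

theorem extLen_of_exact {P Q R : Type u} [AddCommGroup P] [Module O P] [AddCommGroup Q] [Module O Q]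
    [AddCommGroup R] [Module O R] (f : P →ₗ[O] Q) (g : Q →ₗ[O] R) (hf : Function.Injective f)
    (hg : Function.Surjective g) (h : Function.Exact f g) (htP : ∀ p : P, ∃ a : O, a ≠ 0 ∧ a • p = 0) :
    extLen ω Q = extLen ω R + extLen ω P := by
  haveI := hω.inj
  haveI := subsingleton_ext_zero (ω := ω) P htP
  have hS := ModuleCat.shortComplex_shortExact (ShortComplex.mk (ModuleCat.ofHom f) (ModuleCat.ofHom g)
    (ModuleCat.hom_ext h.linearMap_comp_eq_zero)) h hf hg
  let Y := ModuleCat.of O ↥ω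
  refine Module.length_eq_add_of_exact (Ext.precompOfLinear (Ext.mk₀ (ModuleCat.ofHom g)) O Y (zero_add 1))
    (Ext.precompOfLinear (Ext.mk₀ (ModuleCat.ofHom f)) O Y (zero_add 1)) ?_ ?_ ?_
  · rw [injective_iff_map_eq_zero]
    intro x hx
    obtain ⟨x₁, rfl⟩ := Ext.contravariant_sequence_exact₃ hS Y x hx (add_zero 1)
    rw [show x₁ = 0 from @Subsingleton.elim _ (subsingleton_ext_zero (ω := ω) P htP) _ _, Ext.comp_zero]
  · intro x
    exact Ext.contravariant_sequence_exact₁ hS Y (n₁ := 2) x rfl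
      (Ext.eq_zero_of_hasInjectiveDimensionLT _ 2 le_rfl)
  · intro x
    constructor
    · exact fun hx => Ext.contravariant_sequence_exact₂ hS Y x hx
    · rintro ⟨y, rfl⟩
      show (Ext.mk₀ (ModuleCat.ofHom f)).comp ((Ext.mk₀ (ModuleCat.ofHom g)).comp y (zero_add 1)) (zero_add 1) = 0
      rw [Ext.mk₀_comp_mk₀_assoc,
        show ModuleCat.ofHom f ≫ ModuleCat.ofHom g = 0 from ModuleCat.hom_ext h.linearMap_comp_eq_zero,
        Ext.mk₀_zero, Ext.zero_comp]

theorem extLen_mul (Q : Type u) [AddCommGroup Q] [Module O Q] (hQ : IsFiniteLength O Q) :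
    extLen ω Q = extLen ω (IsLocalRing.ResidueField O) * Module.length O Q := by
  haveI := hω.inj
  have hne : IsLocalRing.maximalIdeal O ≠ ⊥ := fun hbot => by
    have := ringKrullDim_eq_zero_of_isField (IsLocalRing.isField_iff_maximalIdeal_eq.mpr hbot)
    rw [hω.hdim] at this
    exact one_ne_zero this
  obtain ⟨x₀, hx₀, hx₀0⟩ := Submodule.exists_mem_ne_zero_of_ne_bot hne
  induction hQ with
  | @of_subsingleton M _ _ _ =>
    rw [Module.length_eq_zero, mul_zero]
    haveI : Subsingleton (Ext (ModuleCat.of O M) (ModuleCat.of O ↥ω) 1) := subsingleton_of_forall_eq 0 fun z => by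
      rw [← Ext.mk₀_id_comp z, (ModuleCat.isZero_of_subsingleton (ModuleCat.of O M)).eq_of_src (𝟙 _) 0,
        Ext.mk₀_zero, Ext.zero_comp]
    exact Module.length_eq_zero
  | @of_simple_quotient M _ _ N _ hN ih =>
    haveI : IsFiniteLength O N := hN
    have htN : ∀ p : N, ∃ a : O, a ≠ 0 ∧ a • p = 0 := by
      obtain ⟨n, hn⟩ := Groth.Agent.S6291.result N hN
      exact fun p => ⟨x₀ ^ n, pow_ne_zero _ hx₀0, (Submodule.eq_bot_iff _).mp hn _
        (Submodule.smul_mem_smul (Ideal.pow_mem_pow hx₀ n) Submodule.mem_top)⟩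
    obtain ⟨m, hm, ⟨e⟩⟩ := isSimpleModule_iff_quot_maximal.mp (inferInstance : IsSimpleModule O (M ⧸ N))
    obtain rfl := IsLocalRing.eq_maximalIdeal hm
    rw [extLen_of_exact hω N.subtype N.mkQ N.injective_subtype N.mkQ_surjective (LinearMap.exact_subtype_mkQ N) htN,
      Module.length_eq_add_of_exact N.subtype N.mkQ N.injective_subtype N.mkQ_surjective (LinearMap.exact_subtype_mkQ N),
      ih, extLen_congr e, Module.length_eq_one O (M ⧸ N), mul_add, mul_one, add_comm]
    rfl

/-- `Ext¹` of a quotient as a cokernel of restriction. -/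
theorem nonempty_cokerRestrict {M Q : Type u} [AddCommGroup M] [Module O M] [Module.Finite O M]
    [NoZeroSMulDivisors O M] [AddCommGroup Q] [Module O Q] (π : M →ₗ[O] Q) (hπ : Function.Surjective π) :
    Nonempty (((LinearMap.ker π →ₗ[O] ↥ω) ⧸ LinearMap.range (LinearMap.lcomp O ↥ω (LinearMap.ker π).subtype)) ≃ₗ[O]
      Ext (ModuleCat.of O Q) (ModuleCat.of O ↥ω) 1) :=
  nonempty_extOneEquiv' π hπ ↥ω (subsingleton_ext_succ hω M 0)

/-- Multiples by a nonzero scalar: the normalisation `Ext¹(k, ω) ≅ k`. -/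
theorem extLen_residue : extLen ω (IsLocalRing.ResidueField O) = 1 := by
  classical
  haveI := isNoetherian_omega hω
  haveI : Ring.KrullDimLE 1 O := Ring.krullDimLE_iff.mpr hω.hdim.le
  have hne : IsLocalRing.maximalIdeal O ≠ ⊥ := fun hbot => by
    have := ringKrullDim_eq_zero_of_isField (IsLocalRing.isField_iff_maximalIdeal_eq.mpr hbot)
    rw [hω.hdim] at this
    exact one_ne_zero this
  obtain ⟨x, hx, hx0⟩ := Submodule.exists_mem_ne_zero_of_ne_bot hne
  let π : O →ₗ[O] O ⧸ Ideal.span {x} := (Ideal.span {x}).mkQ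
  obtain ⟨e⟩ := nonempty_cokerRestrict hω π (Submodule.mkQ_surjective _)
  have hfl : IsFiniteLength O (O ⧸ Ideal.span {x}) :=
    isFiniteLength_quotient_span_singleton O (mem_nonZeroDivisors_iff_ne_zero.mpr hx0)
  have hker : LinearMap.ker π = Ideal.span {x} := Submodule.ker_mkQ _
  let xk : LinearMap.ker π := ⟨x, hker.ge (Ideal.mem_span_singleton_self x)⟩
  have hgen : ∀ v : LinearMap.ker π, ∃ c : O, c • xk = v := fun v => by
    obtain ⟨c, hc⟩ := Ideal.mem_span_singleton'.mp (hker.le v.2)
    exact ⟨c, Subtype.ext hc⟩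
  let ev : (LinearMap.ker π →ₗ[O] ↥ω) ≃ₗ[O] ↥ω := LinearEquiv.ofBijective (LinearMap.applyₗ xk) ⟨fun f g h => by
      refine LinearMap.ext fun v => ?_
      obtain ⟨c, rfl⟩ := hgen v
      rw [map_smul, map_smul]
      exact congrArg (c • ·) h, fun w => by
      choose c hc using hgen
      refine ⟨{ toFun := fun v => c v • w, map_add' := fun v v' => ?_, map_smul' := fun r v => ?_ }, ?_⟩
      · rw [← add_smul]
        congr 1
        refine mul_right_cancel₀ hx0 ?_
        have h1 := congrArg Subtype.val (hc (v + v'))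
        have h2 := congrArg Subtype.val (hc v)
        have h3 := congrArg Subtype.val (hc v')
        simp [xk] at h1 h2 h3
        rw [h1, add_mul, h2, h3]
      · rw [RingHom.id_apply, ← mul_smul]
        congr 1
        refine mul_right_cancel₀ hx0 ?_
        have h1 := congrArg Subtype.val (hc (r • v))
        have h2 := congrArg Subtype.val (hc v)
        simp [xk] at h1 h2
        rw [h1, mul_assoc, h2]
      · have h2 := congrArg Subtype.val (hc xk)
        simp [xk] at h2
        show c xk • w = w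
        rw [show c xk = 1 from mul_right_cancel₀ hx0 (h2.trans (one_mul x).symm), one_smul]⟩
  have hrange : (LinearMap.range (LinearMap.lcomp O ↥ω (LinearMap.ker π).subtype)).map ev.toLinearMap =
      LinearMap.range (LinearMap.lsmul O ↥ω x) := by
    ext w
    constructor
    · rintro ⟨_, ⟨f, rfl⟩, rfl⟩
      refine ⟨f 1, ?_⟩
      show x • f 1 = f x
      rw [← map_smul, smul_eq_mul, mul_one]
    · rintro ⟨z, rfl⟩
      refine ⟨_, ⟨LinearMap.toSpanSingleton O ↥ω z, rfl⟩, ?_⟩
      show LinearMap.toSpanSingleton O ↥ω z x = x • z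
      rfl
  have h1 : extLen ω (O ⧸ Ideal.span {x}) = Module.length O (↥ω ⧸ LinearMap.range (LinearMap.lsmul O ↥ω x)) :=
    e.length_eq.symm.trans (Submodule.Quotient.equiv _ _ ev hrange).length_eq
  -- compare `ω` with an ideal
  obtain ⟨b, hb⟩ : ∃ b : nonZeroDivisors O, ∀ w : ↥ω, b.1 • (w : K) ∈ LinearMap.range (Algebra.linearMap O K) := by
    obtain ⟨s, hs⟩ := hω.fg
    obtain ⟨b, hb⟩ := IsLocalization.exist_integer_multiples_of_finset (nonZeroDivisors O) s
    refine ⟨b, fun w => ?_⟩
    have : ω ≤ (LinearMap.range (Algebra.linearMap O K)).comap (LinearMap.lsmul O K b.1) := by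
      rw [← hs]
      refine Submodule.span_le.mpr fun z hz => ?_
      obtain ⟨r, hr⟩ := hb z hz
      exact ⟨r, hr⟩
    exact this w.2
  let g : ↥ω →ₗ[O] O := (LinearEquiv.ofInjective (Algebra.linearMap O K) (IsFractionRing.injective O K)).symm.toLinearMap ∘ₗ
    LinearMap.codRestrict _ (b.1 • ω.subtype) hb
  have hg : ∀ w, algebraMap O K (g w) = b.1 • (w : K) := fun w =>
    congrArg Subtype.val (LinearEquiv.apply_symm_apply
      (LinearEquiv.ofInjective (Algebra.linearMap O K) (IsFractionRing.injective O K))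
      (LinearMap.codRestrict _ (b.1 • ω.subtype) hb w))
  have hginj : Function.Injective g := by
    rw [injective_iff_map_eq_zero]
    intro w hw
    have := hg w
    rw [hw, map_zero] at this
    exact smul_eq_zero_omega ω (nonZeroDivisors.coe_ne_zero b) (Subtype.ext this.symm)
  obtain ⟨w₀, hw₀, hw00⟩ := Submodule.exists_mem_ne_zero_of_ne_bot hω.ne_bot
  have hg0 : g ⟨w₀, hw₀⟩ ≠ 0 := fun h => hw00 (congrArg Subtype.val
    ((injective_iff_map_eq_zero g).mp hginj _ h))
  have hlsmul : Function.Injective (LinearMap.lsmul O O x) := fun a a' h => mul_left_cancel₀ hx0 h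
  have hfinN : Module.length O (O ⧸ LinearMap.range g) ≠ ⊤ := length_ne_top hω _ fun q => by
    obtain ⟨r, rfl⟩ := Submodule.Quotient.mk_surjective _ q
    exact ⟨_, hg0, (Submodule.Quotient.mk_eq_zero _).mpr ⟨r • ⟨w₀, hw₀⟩, by
      show g (r • ⟨w₀, hw₀⟩) = g ⟨w₀, hw₀⟩ * r
      rw [map_smul, smul_eq_mul, mul_comm]⟩⟩
  have h2 : Module.length O (↥ω ⧸ LinearMap.range (LinearMap.lsmul O ↥ω x)) = Module.length O (O ⧸ Ideal.span {x}) := by
    let eg := LinearEquiv.ofInjective g hginj
    rw [(Submodule.Quotient.equiv _ (LinearMap.range (LinearMap.lsmul O (LinearMap.range g) x)) eg (by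
      ext z
      constructor
      · rintro ⟨_, ⟨w, rfl⟩, rfl⟩
        exact ⟨eg w, (map_smul eg x w).symm⟩
      · rintro ⟨w, rfl⟩
        exact ⟨_, ⟨eg.symm w, rfl⟩, (map_smul eg x (eg.symm w)).trans (congrArg (x • ·) (eg.apply_symm_apply w))⟩)).length_eq,
      length_quotient_smul_eq (LinearMap.range g) x hlsmul hfinN]
    refine (Submodule.quotEquivOfEq _ _ ?_).length_eq
    ext r
    rw [Ideal.mem_span_singleton']
    simp [LinearMap.mem_range, mul_comm]
  have h3 := extLen_mul hω _ hfl
  rw [h1, h2] at h3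
  haveI : Nontrivial (O ⧸ Ideal.span {x}) := Ideal.Quotient.nontrivial_iff.mpr fun h =>
    (IsLocalRing.maximalIdeal.isMaximal O).ne_top (eq_top_iff.mpr (h ▸ Ideal.span_le.mpr (by simpa using hx)))
  obtain ⟨n, hn⟩ := ENat.ne_top_iff_exists.mp (Module.length_ne_top_iff.mpr hfl)
  have hn0 : n ≠ 0 := fun h => Module.length_pos.ne' (by rw [← hn, h]; rfl : Module.length O (O ⧸ Ideal.span {x}) = 0)
  rw [← hn] at h3
  cases hr : extLen ω (IsLocalRing.ResidueField O) with
  | top => rw [hr, ENat.top_mul (by exact_mod_cast hn0)] at h3; exact absurd h3 (ENat.coe_ne_top n)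
  | coe r =>
    rw [hr] at h3
    norm_cast at h3 ⊢
    exact Nat.eq_of_mul_eq_mul_right (Nat.pos_of_ne_zero hn0) (by rw [one_mul]; exact h3.symm)

/-- Duality preserves lengths of finite-length quotients. -/
theorem length_coker_restrict {M Q : Type u} [AddCommGroup M] [Module O M] [Module.Finite O M]
    [NoZeroSMulDivisors O M] [AddCommGroup Q] [Module O Q] (π : M →ₗ[O] Q) (hπ : Function.Surjective π)
    (hQ : Module.length O Q ≠ ⊤) :
    Module.length O ((LinearMap.ker π →ₗ[O] ↥ω) ⧸ LinearMap.range (LinearMap.lcomp O ↥ω (LinearMap.ker π).subtype)) =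
      Module.length O Q := by
  obtain ⟨e⟩ := nonempty_cokerRestrict hω π hπ
  rw [e.length_eq]
  exact (extLen_mul hω Q (Module.length_ne_top_iff.mp hQ)).trans (by rw [extLen_residue hω, one_mul])

/-- The endomorphisms of a canonical ideal are the scalars. -/
theorem exists_eq_smul_id (e : ↥ω →ₗ[O] ↥ω) : ∃ r : O, e = r • LinearMap.id := by
  classical
  haveI := isNoetherian_omega hω
  obtain ⟨w₀, hw₀, hw00⟩ := Submodule.exists_mem_ne_zero_of_ne_bot hω.ne_bot
  let W₀ : ↥ω := ⟨w₀, hw₀⟩
  let ι : O →ₗ[O] (↥ω →ₗ[O] ↥ω) := LinearMap.toSpanSingleton O _ LinearMap.id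
  let π := (LinearMap.range ι).mkQ
  have hcomm : ∀ (f : ↥ω →ₗ[O] ↥ω) (w w' : ↥ω), (f w : K) * w' = w * (f w' : K) := by
    intro f w w'
    obtain ⟨p, q, hq, hpq⟩ := IsFractionRing.div_surjective (A := O) (w : K)
    obtain ⟨p', q', hq', hpq'⟩ := IsFractionRing.div_surjective (A := O) (w' : K)
    have hq0 : algebraMap O K q ≠ 0 := IsFractionRing.to_map_ne_zero_of_mem_nonZeroDivisors hq
    have hq0' : algebraMap O K q' ≠ 0 := IsFractionRing.to_map_ne_zero_of_mem_nonZeroDivisors hq'
    have heq : (p' * q) • w = (p * q') • w' := Subtype.ext (by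
      simp only [Submodule.coe_smul, Algebra.smul_def, map_mul]
      rw [← hpq, ← hpq']
      field_simp)
    have h := congrArg (fun z => (f z : K)) heq
    simp only [map_smul, Submodule.coe_smul, Algebra.smul_def, map_mul] at h
    rw [← hpq, ← hpq']
    field_simp
    linear_combination h
  have ht : ∀ x : (↥ω →ₗ[O] ↥ω) ⧸ LinearMap.range ι, ∃ a : O, a ≠ 0 ∧ a • x = 0 := by
    intro x
    obtain ⟨f, rfl⟩ := Submodule.Quotient.mk_surjective _ x
    obtain ⟨p, q, hq, hpq⟩ := IsFractionRing.div_surjective (A := O) ((f W₀ : K) / w₀)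
    refine ⟨q, nonZeroDivisors.ne_zero hq, ?_⟩
    rw [← Submodule.Quotient.mk_smul, Submodule.Quotient.mk_eq_zero]
    refine ⟨p, LinearMap.ext fun w => Subtype.ext ?_⟩
    have hq0 : algebraMap O K q ≠ 0 := IsFractionRing.to_map_ne_zero_of_mem_nonZeroDivisors hq
    show p • (w : K) = q • (f w : K)
    rw [Algebra.smul_def, Algebra.smul_def]
    have h1 := hcomm f w W₀
    rw [div_eq_div_iff hq0 hw00] at hpq
    refine mul_right_cancel₀ hw00 ?_
    show algebraMap O K p * w * w₀ = algebraMap O K q * (f w : K) * w₀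
    linear_combination (w : K) * hpq - algebraMap O K q * h1
  haveI := finite_dual hω ↥ω
  haveI := noZeroSMul_dual hω ↥ω
  have hfin := length_ne_top hω _ ht
  have h0 : Module.length O ((↥ω →ₗ[O] ↥ω) ⧸ LinearMap.range ι) = 0 := by
    rw [← length_coker_restrict hω π (Submodule.mkQ_surjective _) hfin, Module.length_eq_zero_iff,
      Submodule.Quotient.subsingleton_iff, LinearMap.range_eq_top]
    intro φ
    have hid : LinearMap.id ∈ LinearMap.ker π := by
      rw [Submodule.ker_mkQ]
      exact ⟨1, by simp [ι]⟩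
    refine ⟨LinearMap.applyₗ (φ ⟨LinearMap.id, hid⟩), LinearMap.ext fun v => ?_⟩
    obtain ⟨r, hr⟩ := (Submodule.ker_mkQ (LinearMap.range ι)).le v.2
    have : v = r • (⟨LinearMap.id, hid⟩ : LinearMap.ker π) := Subtype.ext (by rw [← hr]; rfl)
    rw [this]
    show (r • (⟨LinearMap.id, hid⟩ : LinearMap.ker π) : ↥ω →ₗ[O] ↥ω) (φ ⟨LinearMap.id, hid⟩) = φ (r • ⟨LinearMap.id, hid⟩)
    rw [map_smul]
    rfl
  rw [Module.length_eq_zero_iff, Submodule.Quotient.subsingleton_iff] at h0
  obtain ⟨r, hr⟩ := (h0.ge (Submodule.mem_top (x := e)))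
  exact ⟨r, hr.symm⟩

/-- The evaluation map is bijective on finite free modules. -/
theorem bijective_eval_pi (n : ℕ) :
    Function.Bijective (LinearMap.id.flip : (Fin n → O) →ₗ[O] Dual' ω (Dual' ω (Fin n → O))) := by
  classical
  obtain ⟨w₀, hw₀, hw00⟩ := Submodule.exists_mem_ne_zero_of_ne_bot hω.ne_bot
  constructor
  · rw [injective_iff_map_eq_zero]
    intro v hv
    funext i
    by_contra hne
    refine hw00 (congrArg Subtype.val (smul_eq_zero_omega ω hne (w := ⟨w₀, hw₀⟩) ?_))
    exact LinearMap.congr_fun hv (LinearMap.toSpanSingleton O ↥ω ⟨w₀, hw₀⟩ ∘ₗ LinearMap.proj i)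
  · intro φ
    let ins : Fin n → ↥ω →ₗ[O] Dual' ω (Fin n → O) := fun i =>
      { toFun := fun w => LinearMap.toSpanSingleton O ↥ω w ∘ₗ LinearMap.proj i
        map_add' := fun w w' => by ext v; simp
        map_smul' := fun r w => by ext v; simp [smul_comm r] }
    choose r hr using fun i => exists_eq_smul_id hω (φ ∘ₗ ins i)
    refine ⟨r, LinearMap.ext fun f => ?_⟩
    have hf : f = ∑ i, ins i (f (Pi.single i 1)) := LinearMap.ext fun v => by
      rw [LinearMap.sum_apply]
      conv_lhs => rw [pi_eq_sum_univ' v, map_sum]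
      exact Finset.sum_congr rfl fun i _ => by simp [ins]
    show f r = φ f
    conv_rhs => rw [hf, map_sum]
    conv_lhs => rw [pi_eq_sum_univ' r, map_sum]
    refine Finset.sum_congr rfl fun i _ => ?_
    rw [map_smul]
    exact (LinearMap.congr_fun (hr i) (f (Pi.single i 1))).symm

/-- Dualisation of maps of torsion-free modules with torsion-free cokernel is surjective. -/
theorem surjective_lcomp {N M : Type u} [AddCommGroup N] [Module O N] [AddCommGroup M] [Module O M]
    (i : N →ₗ[O] M) (hi : Function.Injective i) [Module.Finite O (M ⧸ LinearMap.range i)]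
    [NoZeroSMulDivisors O (M ⧸ LinearMap.range i)] : Function.Surjective (LinearMap.lcomp O ↥ω i) := by
  intro η
  have hS := ModuleCat.shortComplex_shortExact (ShortComplex.mk (ModuleCat.ofHom i)
    (ModuleCat.ofHom (LinearMap.range i).mkQ) (ModuleCat.hom_ext i.range_mkQ_comp))
    (LinearMap.exact_map_mkQ_range i) hi (Submodule.mkQ_surjective _)
  obtain ⟨y, hy⟩ := Ext.contravariant_sequence_exact₁ hS (ModuleCat.of O ↥ω) (Ext.mk₀ (ModuleCat.ofHom η))
    (n₁ := 1) rfl (@Subsingleton.elim _ (subsingleton_ext_succ hω (M ⧸ LinearMap.range i) 0) _ _)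
  obtain ⟨ξ, rfl⟩ := (Ext.mk₀_bijective _ _).2 y
  rw [Ext.mk₀_comp_mk₀] at hy
  exact ⟨ξ.hom, congrArg ModuleCat.Hom.hom ((Ext.mk₀_bijective _ _).1 hy)⟩

/-- The range of the dual of a map between torsion-free modules has no torsion in the ambient dual's image. -/
theorem bijective_eval (M : Type u) [AddCommGroup M] [Module O M] [Module.Finite O M] [NoZeroSMulDivisors O M] :
    Function.Bijective (LinearMap.id.flip : M →ₗ[O] Dual' ω (Dual' ω M)) := by
  classical
  obtain ⟨w₀, hw₀, hw00⟩ := Submodule.exists_mem_ne_zero_of_ne_bot hω.ne_bot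
  constructor
  · obtain ⟨a, m, v, φ, ha, hφ⟩ := Groth.Agent.H1CAlg.exists_coord_smul O M
    rw [injective_iff_map_eq_zero]
    intro x hx
    have h := hφ x
    have h0 : ∀ i, φ x i = 0 := fun i => by
      by_contra hne
      refine hw00 (congrArg Subtype.val (smul_eq_zero_omega ω hne (w := ⟨w₀, hw₀⟩) ?_))
      exact LinearMap.congr_fun hx (LinearMap.toSpanSingleton O ↥ω ⟨w₀, hw₀⟩ ∘ₗ LinearMap.proj i ∘ₗ φ)
    simp only [h0, zero_smul, Finset.sum_const_zero] at h
    exact (smul_eq_zero.mp h).resolve_left ha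
  · obtain ⟨n, π, hπ⟩ := Module.Finite.exists_fin' O M
    let D := LinearMap.lcomp O ↥ω π
    have hD : Function.Injective D := fun f g h => LinearMap.ext fun x => by
      obtain ⟨v, rfl⟩ := hπ x
      exact LinearMap.congr_fun h v
    let r := LinearMap.lcomp O ↥ω (LinearMap.ker π).subtype
    let θ : (Dual' ω (Fin n → O) ⧸ LinearMap.range D) →ₗ[O] Dual' ω (LinearMap.ker π) :=
      (LinearMap.range D).liftQ r (by
        rintro _ ⟨f, rfl⟩
        rw [LinearMap.mem_ker]
        refine LinearMap.ext fun v => ?_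
        show f (π v.1) = 0
        rw [v.2, map_zero])
    have hθ : Function.Injective θ := by
      rw [← LinearMap.ker_eq_bot, Submodule.ker_liftQ_eq_bot]
      intro f hf
      have hle : LinearMap.ker π ≤ LinearMap.ker f := fun v hv => LinearMap.congr_fun hf ⟨v, hv⟩
      exact ⟨(LinearMap.ker π).liftQ f hle ∘ₗ (π.quotKerEquivOfSurjective hπ).symm.toLinearMap,
        LinearMap.ext fun v => by
          show (LinearMap.ker π).liftQ f hle ((π.quotKerEquivOfSurjective hπ).symm (π v)) = f v
          rw [show (π.quotKerEquivOfSurjective hπ).symm (π v) = Submodule.Quotient.mk v from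
            (LinearEquiv.symm_apply_eq _).mpr rfl]
          rfl⟩
    haveI := finite_dual hω (Fin n → O)
    haveI := noZeroSMul_dual hω (LinearMap.ker π)
    haveI : NoZeroSMulDivisors O (Dual' ω (Fin n → O) ⧸ LinearMap.range D) :=
      hθ.noZeroSMulDivisors θ (map_zero θ) (map_smul θ)
    intro φ
    obtain ⟨Φ, hΦ⟩ := surjective_lcomp hω D hD φ
    obtain ⟨v, rfl⟩ := (bijective_eval_pi hω n).2 Φ
    exact ⟨π v, hΦ⟩

end Groth.Agent.H23TFCurv
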