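import Groth.Agent.H23TFCurv.Dual
import Mathlib.GroupTheory.QuotientGroup.Basic

/-!
# Duality exchanges the arguments of `Ext` between torsion-free modules
-/

set_option autoImplicit false
set_option linter.style.haveILetI false

noncomputable section

universe u

open CategoryTheory Abelian

namespace Groth.Agent.H23TFCurv

variable {O : Type u} [CommRing O] [IsDomain O] [IsNoetherianRing O] [IsLocalRing O]
  {K : Type u} [Field K] [Algebra O K] [IsFractionRing O K] {ω : Submodule O K} (hω : IsCanonical ω)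

include hω

/-- Dualisation is bijective on maps. -/
theorem bijective_dualMap (M N : Type u) [AddCommGroup M] [Module O M] [AddCommGroup N] [Module O N]
    [Module.Finite O N] [NoZeroSMulDivisors O N] :
    Function.Bijective (fun f : M →ₗ[O] N => (LinearMap.lcomp O ↥ω f : Dual' ω N →ₗ[O] Dual' ω M)) := by
  have hN := bijective_eval hω N
  let eN : N ≃ₗ[O] Dual' ω (Dual' ω N) := LinearEquiv.ofBijective _ hN
  refine ⟨fun f g h => LinearMap.ext fun m => hN.1 (LinearMap.ext fun φ => ?_), fun g => ?_⟩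
  · exact LinearMap.congr_fun (LinearMap.congr_fun h φ) m
  · refine ⟨eN.symm.toLinearMap ∘ₗ LinearMap.lcomp O ↥ω g ∘ₗ LinearMap.id.flip, LinearMap.ext fun φ => LinearMap.ext fun m => ?_⟩
    have key := eN.apply_symm_apply (LinearMap.lcomp O ↥ω g (LinearMap.id.flip m))
    exact LinearMap.congr_fun key φ

theorem subsingleton_ext_into_dual_free (P : Type u) [AddCommGroup P] [Module O P] [Module.Finite O P]
    [NoZeroSMulDivisors O P] (n i : ℕ) :
    Subsingleton (Ext (ModuleCat.of O P) (ModuleCat.of O (Dual' ω (Fin n → O))) (i + 1)) := by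
  classical
  refine subsingleton_of_forall_eq 0 fun z => ?_
  let pr : Fin n → (Dual' ω (Fin n → O) →ₗ[O] ↥ω) := fun l => LinearMap.applyₗ (Pi.single l 1)
  let ins : Fin n → (↥ω →ₗ[O] Dual' ω (Fin n → O)) := fun l =>
    { toFun := fun w => LinearMap.toSpanSingleton O ↥ω w ∘ₗ LinearMap.proj l
      map_add' := fun w w' => by ext v; simp
      map_smul' := fun r w => by ext v; simp [smul_comm r] }
  have hid : 𝟙 (ModuleCat.of O (Dual' ω (Fin n → O))) = ∑ l, ModuleCat.ofHom (pr l) ≫ ModuleCat.ofHom (ins l) := by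
    refine ModuleCat.hom_ext ?_
    rw [ModuleCat.hom_sum]
    refine LinearMap.ext fun f => LinearMap.ext fun v => ?_
    rw [LinearMap.sum_apply, LinearMap.sum_apply]
    show f v = ∑ l, v l • f (Pi.single l 1)
    conv_lhs => rw [pi_eq_sum_univ' v, map_sum]
    exact Finset.sum_congr rfl fun l _ => map_smul f _ _
  rw [← Ext.comp_mk₀_id z, hid]
  rw [Ext.mk₀_sum, Ext.comp_sum]
  refine Finset.sum_eq_zero fun l _ => ?_
  rw [← Ext.mk₀_comp_mk₀, ← Ext.comp_assoc_of_second_deg_zero,
    @Subsingleton.elim _ (subsingleton_ext_succ hω P i) (z.comp (Ext.mk₀ (ModuleCat.ofHom (pr l))) (add_zero _)) 0,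
    Ext.zero_comp]

/-- Duality exchanges the arguments of `Ext`. -/
theorem nonempty_extDualEquiv : ∀ (i : ℕ) (M N : Type u) [AddCommGroup M] [Module O M] [Module.Finite O M]
    [NoZeroSMulDivisors O M] [AddCommGroup N] [Module O N] [Module.Finite O N] [NoZeroSMulDivisors O N],
    Nonempty (Ext (ModuleCat.of O M) (ModuleCat.of O N) i ≃+
      Ext (ModuleCat.of O (Dual' ω N)) (ModuleCat.of O (Dual' ω M)) i) := by
  intro i
  induction i with
  | zero =>
    intro M N _ _ _ _ _ _ _ _
    let d : (M →ₗ[O] N) →+ (Dual' ω N →ₗ[O] Dual' ω M) :=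
      { toFun := fun f => LinearMap.lcomp O ↥ω f
        map_zero' := by ext φ m; simp
        map_add' := fun f g => by ext φ m; simp }
    let h₁ : (ModuleCat.of O M ⟶ ModuleCat.of O N) ≃+ (M →ₗ[O] N) := ModuleCat.homAddEquiv
    let h₂ : (ModuleCat.of O (Dual' ω N) ⟶ ModuleCat.of O (Dual' ω M)) ≃+ (Dual' ω N →ₗ[O] Dual' ω M) :=
      ModuleCat.homAddEquiv
    exact ⟨Ext.addEquiv₀.trans (h₁.trans ((AddEquiv.ofBijective d (bijective_dualMap hω M N)).trans
      (h₂.symm.trans Ext.addEquiv₀.symm)))⟩
  | succ i ih =>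
    intro M N _ _ _ _ _ _ _ _
    classical
    obtain ⟨n, π, hπ⟩ := Module.Finite.exists_fin' O M
    let R := LinearMap.ker π
    have hex : Function.Exact R.subtype π := LinearMap.exact_subtype_ker_map π
    let S₁ : ShortComplex (ModuleCat.{u} O) := ShortComplex.mk (ModuleCat.ofHom R.subtype) (ModuleCat.ofHom π)
      (ModuleCat.hom_ext hex.linearMap_comp_eq_zero)
    have hS₁ : S₁.ShortExact := ModuleCat.shortComplex_shortExact S₁ hex R.injective_subtype hπ
    let f₂ := LinearMap.lcomp O ↥ω π
    let g₂ := LinearMap.lcomp O ↥ω R.subtype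
    have hf₂ : Function.Injective f₂ := fun f g h => LinearMap.ext fun x => by
      obtain ⟨v, rfl⟩ := hπ x
      exact LinearMap.congr_fun h v
    have hg₂ : Function.Surjective g₂ := by
      let e := (LinearEquiv.ofEq _ _ (Submodule.range_subtype R))
      let q : ((Fin n → O) ⧸ LinearMap.range R.subtype) ≃ₗ[O] M :=
        (Submodule.quotEquivOfEq _ _ (Submodule.range_subtype R)).trans (π.quotKerEquivOfSurjective hπ)
      haveI : NoZeroSMulDivisors O ((Fin n → O) ⧸ LinearMap.range R.subtype) :=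
        q.injective.noZeroSMulDivisors q (map_zero q) (map_smul q)
      exact surjective_lcomp hω R.subtype R.injective_subtype
    have hex₂ : Function.Exact f₂ g₂ := by
      intro f
      constructor
      · intro hf
        have hle : R ≤ LinearMap.ker f := fun v hv => LinearMap.congr_fun hf ⟨v, hv⟩
        exact ⟨R.liftQ f hle ∘ₗ (π.quotKerEquivOfSurjective hπ).symm.toLinearMap, LinearMap.ext fun v => by
          show R.liftQ f hle ((π.quotKerEquivOfSurjective hπ).symm (π v)) = f v
          rw [show (π.quotKerEquivOfSurjective hπ).symm (π v) = Submodule.Quotient.mk v from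
            (LinearEquiv.symm_apply_eq _).mpr rfl]
          rfl⟩
      · rintro ⟨φ, rfl⟩
        refine LinearMap.ext fun v => ?_
        show φ (π v.1) = 0
        rw [v.2, map_zero]
    let S₂ : ShortComplex (ModuleCat.{u} O) := ShortComplex.mk (ModuleCat.ofHom f₂) (ModuleCat.ofHom g₂)
      (ModuleCat.hom_ext hex₂.linearMap_comp_eq_zero)
    have hS₂ : S₂.ShortExact := ModuleCat.shortComplex_shortExact S₂ hex₂ hf₂ hg₂
    let Y := ModuleCat.of O N
    let X := ModuleCat.of O (Dual' ω N)
    haveI := finite_dual hω N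
    haveI := noZeroSMul_dual hω N
    haveI : Projective S₁.X₂ := inferInstanceAs (Projective (ModuleCat.of O (Fin n → O)))
    -- connecting maps
    let a : Ext S₁.X₁ Y i →+ Ext S₁.X₃ Y (i + 1) := hS₁.extClass.precomp Y (add_comm 1 i)
    let b : Ext X S₂.X₃ i →+ Ext X S₂.X₁ (i + 1) := hS₂.extClass.postcomp X rfl
    have ha : Function.Surjective a := fun x => by
      exact Ext.contravariant_sequence_exact₃ hS₁ Y x (Ext.eq_zero_of_projective _) (add_comm 1 i)
    have hb : Function.Surjective b := fun x => by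
      exact Ext.covariant_sequence_exact₁ X hS₂ x
        (@Subsingleton.elim _ (subsingleton_ext_into_dual_free hω (Dual' ω N) n i) _ _) rfl
    cases i with
    | zero =>
      let d : (R →ₗ[O] N) →+ (Dual' ω N →ₗ[O] Dual' ω R) :=
        { toFun := fun f => LinearMap.lcomp O ↥ω f
          map_zero' := by ext φ m; simp
          map_add' := fun f g => by ext φ m; simp }
      let h₁ : (S₁.X₁ ⟶ Y) ≃+ (R →ₗ[O] N) := ModuleCat.homAddEquiv
      let h₂ : (X ⟶ S₂.X₃) ≃+ (Dual' ω N →ₗ[O] Dual' ω R) := ModuleCat.homAddEquiv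
      let e : Ext S₁.X₁ Y 0 ≃+ Ext X S₂.X₃ 0 :=
        Ext.addEquiv₀.trans (h₁.trans ((AddEquiv.ofBijective d (bijective_dualMap hω R N)).trans
          (h₂.symm.trans Ext.addEquiv₀.symm)))
      have he : ∀ f : R →ₗ[O] N, e (Ext.mk₀ (ModuleCat.ofHom f : S₁.X₁ ⟶ Y)) =
          Ext.mk₀ (ModuleCat.ofHom (LinearMap.lcomp O ↥ω f) : X ⟶ S₂.X₃) := by
        intro f
        have h0 : Ext.addEquiv₀ (Ext.mk₀ (ModuleCat.ofHom f : S₁.X₁ ⟶ Y)) = ModuleCat.ofHom f :=
          Ext.addEquiv₀.apply_symm_apply _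
        show Ext.addEquiv₀.symm (h₂.symm (d (h₁ (Ext.addEquiv₀ _)))) = _
        rw [h0]
        rfl
      let c := b.comp e.toAddMonoidHom
      have hc : Function.Surjective c := hb.comp e.surjective
      have hk : a.ker = c.ker := by
        ext x
        obtain ⟨x, rfl⟩ := (Ext.mk₀_bijective _ _).2 x
        obtain ⟨f, rfl⟩ : ∃ f, ModuleCat.ofHom f = x := ⟨x.hom, rfl⟩
        show (hS₁.extClass.comp _ (add_comm 1 0) = 0) ↔ (Ext.comp (e (Ext.mk₀ _)) hS₂.extClass rfl = 0)
        rw [he]
        constructor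
        · intro h
          obtain ⟨y, hy⟩ := Ext.contravariant_sequence_exact₁ hS₁ Y _ (n₁ := 1) rfl h
          obtain ⟨y, rfl⟩ := (Ext.mk₀_bijective _ _).2 y
          rw [Ext.mk₀_comp_mk₀] at hy
          have hy' := (Ext.mk₀_bijective _ _).1 hy
          have : (ModuleCat.ofHom (LinearMap.lcomp O ↥ω f) : X ⟶ S₂.X₃) =
              (ModuleCat.ofHom (LinearMap.lcomp O ↥ω y.hom) : X ⟶ S₂.X₂) ≫ S₂.g := by
            refine ModuleCat.hom_ext (LinearMap.ext fun φ => LinearMap.ext fun v => ?_)
            exact congrArg φ (LinearMap.congr_fun (congrArg ModuleCat.Hom.hom hy'.symm) v)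
          rw [this, ← Ext.mk₀_comp_mk₀, Ext.comp_assoc_of_second_deg_zero, ShortComplex.ShortExact.comp_extClass,
            Ext.comp_zero]
        · intro h
          obtain ⟨y, hy⟩ := Ext.covariant_sequence_exact₃ X hS₂ _ rfl h
          obtain ⟨y, rfl⟩ := (Ext.mk₀_bijective _ _).2 y
          obtain ⟨g, hg⟩ := (bijective_dualMap hω (Fin n → O) N).2 y.hom
          rw [Ext.mk₀_comp_mk₀] at hy
          have hy' := congrArg ModuleCat.Hom.hom ((Ext.mk₀_bijective _ _).1 hy)
          have hfg : f = g ∘ₗ R.subtype := (bijective_dualMap hω R N).1 (by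
            show LinearMap.lcomp O ↥ω f = _
            refine (Eq.trans ?_ hy').symm
            refine LinearMap.ext fun φ => LinearMap.ext fun v => ?_
            exact LinearMap.congr_fun (LinearMap.congr_fun hg φ) v.1)
          have : (ModuleCat.ofHom f : S₁.X₁ ⟶ Y) = S₁.f ≫ (ModuleCat.ofHom g : S₁.X₂ ⟶ Y) := by rw [hfg]; rfl
          rw [this, ← Ext.mk₀_comp_mk₀, ← Ext.comp_assoc_of_second_deg_zero, ShortComplex.ShortExact.extClass_comp,
            Ext.zero_comp]
      exact ⟨(QuotientAddGroup.quotientKerEquivOfSurjective a ha).symm.trans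
        ((QuotientAddGroup.quotientAddEquivOfEq hk).trans (QuotientAddGroup.quotientKerEquivOfSurjective c hc))⟩
    | succ j =>
      have ha' : Function.Injective a := (injective_iff_map_eq_zero a).mpr fun x hx => by
        obtain ⟨y, hy⟩ := Ext.contravariant_sequence_exact₁ hS₁ Y x (add_comm 1 (j + 1)) hx
        rw [← hy, Ext.eq_zero_of_projective y, Ext.comp_zero]
      have hb' : Function.Injective b := (injective_iff_map_eq_zero b).mpr fun x hx => by
        obtain ⟨y, hy⟩ := Ext.covariant_sequence_exact₃ X hS₂ x rfl hx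
        rw [← hy, show y = 0 from @Subsingleton.elim _ (subsingleton_ext_into_dual_free hω (Dual' ω N) n j) y 0,
          Ext.zero_comp]
      haveI : NoZeroSMulDivisors O (Fin n → O) := ⟨fun {c v} h => or_iff_not_imp_left.mpr fun hc => funext fun l =>
        (mul_eq_zero.mp (congrFun h l)).resolve_left hc⟩
      haveI : NoZeroSMulDivisors O R := R.injective_subtype.noZeroSMulDivisors R.subtype (map_zero _) (map_smul _)
      obtain ⟨e⟩ := ih R N
      exact ⟨(AddEquiv.ofBijective a ⟨ha', ha⟩).symm.trans (e.trans (AddEquiv.ofBijective b ⟨hb', hb⟩))⟩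

end Groth.Agent.H23TFCurv
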