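import Mathlib.Algebra.Category.ModuleCat.Projective
import Mathlib.Algebra.Category.ModuleCat.Ext.HasExt
import Mathlib.Algebra.Homology.ShortComplex.ModuleCat
import Mathlib.Algebra.Homology.DerivedCategory.Ext.EnoughProjectives
import Mathlib.Algebra.Homology.DerivedCategory.Ext.ExactSequences
import Mathlib.Algebra.Homology.DerivedCategory.Ext.Linear
import Mathlib.RingTheory.LocalRing.Length

/-!
# `Ext¹` from a presentation, and lengths over local algebras with trivial residue extension
-/

set_option autoImplicit false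
set_option linter.style.haveILetI false

noncomputable section

universe u

open CategoryTheory Abelian

namespace Groth.Agent.H23TFCurv

variable {A : Type u} [CommRing A] {F M : Type u} [AddCommGroup F] [Module A F] [AddCommGroup M] [Module A M]

/-- `Ext¹(M, N)` is the cokernel of restriction along an acyclic presentation. -/
theorem nonempty_extOneEquiv' (π : F →ₗ[A] M) (hπ : Function.Surjective π)
    (N : Type u) [AddCommGroup N] [Module A N]
    (hF : Subsingleton (Ext (ModuleCat.of A F) (ModuleCat.of A N) 1)) :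
    Nonempty ((((LinearMap.ker π) →ₗ[A] N) ⧸ LinearMap.range (LinearMap.lcomp A N (LinearMap.ker π).subtype)) ≃ₗ[A]
      Ext (ModuleCat.of A M) (ModuleCat.of A N) 1) := by
  let S : ShortComplex (ModuleCat.{u} A) := ShortComplex.mk (ModuleCat.ofHom (LinearMap.ker π).subtype)
    (ModuleCat.ofHom π) (by ext x; exact x.2)
  have hS : S.ShortExact :=
    { exact := (ShortComplex.ShortExact.moduleCat_exact_iff_function_exact S).mpr (LinearMap.exact_subtype_ker_map π)
      mono_f := (ModuleCat.mono_iff_injective _).mpr Subtype.val_injective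
      epi_g := (ModuleCat.epi_iff_surjective _).mpr hπ }
  let Y := ModuleCat.of A N
  let e₁ : (S.X₁ ⟶ Y) ≃ₗ[A] (LinearMap.ker π →ₗ[A] N) := ModuleCat.homLinearEquiv (S := A)
  let δ : (LinearMap.ker π →ₗ[A] N) →ₗ[A] Ext (ModuleCat.of A M) Y 1 :=
    (Ext.precompOfLinear hS.extClass A Y (add_zero 1)) ∘ₗ
      ((Ext.linearEquiv₀ (R := A) (X := S.X₁) (Y := Y)).symm.toLinearMap) ∘ₗ e₁.symm.toLinearMap
  have hδ : ∀ φ, δ φ = hS.extClass.comp (Ext.mk₀ (ModuleCat.ofHom φ)) (add_zero 1) := fun φ => rfl
  have hsurj : Function.Surjective δ := by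
    intro x
    obtain ⟨x₁, hx₁⟩ := Ext.contravariant_sequence_exact₃ hS Y (x : Ext S.X₃ Y 1)
      (@Subsingleton.elim _ hF _ _) (add_zero 1)
    refine ⟨(Ext.addEquiv₀ x₁).hom, ?_⟩
    rw [hδ]
    rw [ModuleCat.ofHom_hom]
    exact (congrArg (fun z => hS.extClass.comp z (add_zero 1)) (Ext.addEquiv₀.left_inv x₁)).trans hx₁
  have hker : LinearMap.ker δ = LinearMap.range (LinearMap.lcomp A N (LinearMap.ker π).subtype) := by
    ext φ
    rw [LinearMap.mem_ker, hδ]
    constructor
    · intro h
      obtain ⟨x₂, hx₂⟩ := Ext.contravariant_sequence_exact₁ hS Y _ (add_zero 1) h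
      refine ⟨(Ext.addEquiv₀ x₂).hom, ?_⟩
      have : S.f ≫ Ext.addEquiv₀ x₂ = ModuleCat.ofHom φ := by
        apply Ext.addEquiv₀.symm.injective
        show Ext.mk₀ _ = Ext.mk₀ _
        rw [← Ext.mk₀_comp_mk₀, show Ext.mk₀ (Ext.addEquiv₀ x₂) = x₂ from Ext.addEquiv₀.left_inv x₂, hx₂]
      exact congrArg ModuleCat.Hom.hom this
    · rintro ⟨y, rfl⟩
      have : ModuleCat.ofHom (LinearMap.lcomp A N (LinearMap.ker π).subtype y) = S.f ≫ (ModuleCat.ofHom y : S.X₂ ⟶ Y) := rfl
      rw [this, ← Ext.mk₀_comp_mk₀, ← Ext.comp_assoc_of_second_deg_zero, hS.extClass_comp, Ext.zero_comp]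
  exact ⟨(Submodule.quotEquivOfEq _ _ hker.symm).trans (δ.quotKerEquivOfSurjective hsurj)⟩

/-- `Ext¹(M, N)` is the cokernel of restriction along the relations of a projective presentation. -/
theorem nonempty_extOneEquiv [Module.Projective A F] (π : F →ₗ[A] M) (hπ : Function.Surjective π)
    (N : Type u) [AddCommGroup N] [Module A N] :
    Nonempty ((((LinearMap.ker π) →ₗ[A] N) ⧸ LinearMap.range (LinearMap.lcomp A N (LinearMap.ker π).subtype)) ≃ₗ[A]
      Ext (ModuleCat.of A M) (ModuleCat.of A N) 1) :=
  nonempty_extOneEquiv' π hπ N (subsingleton_of_forall_eq 0 fun e => Ext.eq_zero_of_projective e)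

/-- Over a local algebra with trivial residue extension, length is the length over the field. -/
theorem length_eq_of_residue (k : Type u) [Field k] [Algebra k A] [IsLocalRing A]
    (hres : ∀ a : A, ∃ c : k, a - algebraMap k A c ∈ IsLocalRing.maximalIdeal A)
    (X : Type u) [AddCommGroup X] [Module A X] [Module k X] [IsScalarTower k A X] :
    Module.length A X = Module.length k X := by
  haveI : IsLocalHom (algebraMap k A) := by
    constructor
    intro x hx
    by_contra h
    simp only [isUnit_iff_ne_zero, ne_eq, not_not] at h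
    simp [h] at hx
  rw [IsLocalRing.length_restrictScalars k A X]
  have hs : Function.Surjective (algebraMap (IsLocalRing.ResidueField k) (IsLocalRing.ResidueField A)) := by
    intro z
    obtain ⟨a, rfl⟩ := IsLocalRing.residue_surjective z
    obtain ⟨c, hc⟩ := hres a
    refine ⟨IsLocalRing.residue k c, ?_⟩
    rw [IsLocalRing.ResidueField.algebraMap_residue]
    exact (Ideal.Quotient.eq.mpr hc).symm
  rw [Module.length_eq_of_surjective (M := IsLocalRing.ResidueField A) hs, Module.length_eq_one (IsLocalRing.ResidueField A) (IsLocalRing.ResidueField A), mul_one]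

end Groth.Agent.H23TFCurv
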