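import Groth.Agent.H23TFCurv.DualExt
import Groth.Agent.H23TFCurv.Basic
import Groth.Agent.H4Goren.Basic
import Mathlib.RingTheory.Localization.BaseChange
import Mathlib.Algebra.Algebra.Operations

/-!
# Lattices over Gorenstein curve singularities
-/

set_option autoImplicit false
set_option linter.style.haveILetI false

noncomputable section

universe u

open CategoryTheory Abelian

namespace Groth.Agent.H23TFCurv

/-- `Ext` only depends on the isomorphism classes, additively. -/
theorem nonempty_extAddEquiv_of_iso {R : Type u} [CommRing R] {M M' N N' : ModuleCat.{u} R} (e : M ≅ M') (f : N ≅ N')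
    (n : ℕ) : Nonempty (Ext M N n ≃+ Ext M' N' n) :=
  ⟨{ toFun := fun x => (Ext.mk₀ e.inv).comp (x.comp (Ext.mk₀ f.hom) (add_zero n)) (zero_add n)
     invFun := fun x => (Ext.mk₀ e.hom).comp (x.comp (Ext.mk₀ f.inv) (add_zero n)) (zero_add n)
     left_inv := fun x => by simp [Ext.comp_assoc_of_second_deg_zero, Ext.mk₀_comp_mk₀_assoc, Ext.mk₀_comp_mk₀]
     right_inv := fun x => by simp [Ext.comp_assoc_of_second_deg_zero, Ext.mk₀_comp_mk₀_assoc, Ext.mk₀_comp_mk₀]
     map_add' := fun x y => by simp }⟩

variable {O : Type u} [CommRing O] [IsDomain O] {K : Type u} [Field K] [Algebra O K] [IsFractionRing O K]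

/-- Linear maps between submodules of the fraction field are multiplications. -/
theorem map_eq_mul {M N : Submodule O K} (f : ↥M →ₗ[O] ↥N) (w w' : ↥M) :
    (f w : K) * w' = w * (f w' : K) := by
  obtain ⟨p, q, hq, hpq⟩ := IsFractionRing.div_surjective (A := O) (w : K)
  obtain ⟨p', q', hq', hpq'⟩ := IsFractionRing.div_surjective (A := O) (w' : K)
  have hq0 : algebraMap O K q ≠ 0 := IsFractionRing.to_map_ne_zero_of_mem_nonZeroDivisors hq
  have hq0' : algebraMap O K q' ≠ 0 := IsFractionRing.to_map_ne_zero_of_mem_nonZeroDivisors hq'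
  have heq : (p' * q) • w = (p * q') • w' := Subtype.ext (by
    simp only [Submodule.coe_smul, Algebra.smul_def, map_mul]
    rw [← hpq, ← hpq']
    field_simp)
  have h := congrArg (fun z => (f z : K)) heq
  simp only [map_smul, Submodule.coe_smul, Algebra.smul_def, map_mul] at h
  rw [← hpq, ← hpq']
  field_simp
  linear_combination h

variable (O K) in
/-- The unit ideal of a one-dimensional Gorenstein local domain is canonical. -/
theorem isCanonical_one [LocCoh.IsGorensteinLocalRing O] (hdim : ringKrullDim O = 1) :
    IsCanonical (1 : Submodule O K) := by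
  obtain ⟨n, -, hn, hE⟩ := H4Goren.depth_eq_ringKrullDim O
  have hn1 : n = 1 := by
    rw [hdim] at hn
    exact_mod_cast hn.symm
  subst hn1
  haveI := H4Goren.hasInjectiveDimensionLT_of_eva O O hE
  refine ⟨hdim, one_ne_zero, ?_, ?_⟩
  · rw [Submodule.one_eq_range, LinearMap.range_eq_map]
    exact Submodule.FG.map _ Module.Finite.fg_top
  · let e : O ≃ₗ[O] ↥(1 : Submodule O K) :=
      (LinearEquiv.ofInjective (Algebra.linearMap O K) (IsFractionRing.injective O K)).trans
        (LinearEquiv.ofEq _ _ Submodule.one_eq_range.symm)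
    exact hasInjectiveDimensionLT_of_iso e.toModuleIso 2

/-- Submodules of a finite overring are finite. -/
theorem finite_of_le_integralClosure [IsNoetherianRing O] (hfin : Module.Finite O ↥(integralClosure O K))
    (M : Submodule O K) (h : M ≤ Subalgebra.toSubmodule (integralClosure O K)) : Module.Finite O ↥M := by
  haveI : IsNoetherian O ↥(Subalgebra.toSubmodule (integralClosure O K)) := isNoetherian_of_isNoetherianRing_of_finite O ↥(integralClosure O K)
  exact Module.Finite.of_injective (Submodule.inclusion h) (Submodule.inclusion_injective h)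

/-- A submodule of `K^n` that spans it has rank `n`. -/
theorem finrank_baseChange_lattice {n : ℕ} (P : Submodule O (Fin n → K))
    (h : ∀ l, ∃ s : O, s ≠ 0 ∧ s • (Pi.single l (1 : K) : Fin n → K) ∈ P) :
    Module.finrank K (TensorProduct O K ↥P) = n := by
  classical
  have hloc : IsLocalizedModule (nonZeroDivisors O) P.subtype := by
    constructor
    · intro x
      rw [Module.End.isUnit_iff]
      have hx : algebraMap O K x ≠ 0 := IsFractionRing.to_map_ne_zero_of_mem_nonZeroDivisors x.2
      constructor
      · intro v v' hv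
        funext l
        have := congrFun hv l
        simp only [Module.algebraMap_end_apply, Pi.smul_apply, Algebra.smul_def] at this
        exact mul_left_cancel₀ hx this
      · intro v
        refine ⟨(algebraMap O K x)⁻¹ • v, funext fun l => ?_⟩
        rw [Module.algebraMap_end_apply, Pi.smul_apply, Pi.smul_apply, Algebra.smul_def, smul_eq_mul, ← mul_assoc,
          mul_inv_cancel₀ hx, one_mul]
    · intro v
      choose s hs0 hs using h
      choose p q hq hpq using fun l => IsFractionRing.div_surjective (A := O) (v l)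
      have hq0 : ∀ l, algebraMap O K (q l) ≠ 0 := fun l => IsFractionRing.to_map_ne_zero_of_mem_nonZeroDivisors (hq l)
      let D : O := ∏ l, (q l * s l)
      have hD : D • v = ∑ l, ((∏ l' ∈ Finset.univ.erase l, (q l' * s l')) * p l) • (s l • (Pi.single l (1 : K) : Fin n → K)) := by
        conv_lhs => rw [pi_eq_sum_univ' v, Finset.smul_sum]
        refine Finset.sum_congr rfl fun l _ => ?_
        funext l'
        simp only [Pi.smul_apply, Algebra.smul_def, smul_eq_mul, D]
        rw [← Finset.prod_erase_mul Finset.univ _ (Finset.mem_univ l), ← hpq l]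
        simp only [map_mul, map_prod]
        simp only [Pi.mul_apply, Pi.algebraMap_apply, Algebra.algebraMap_self, RingHom.id_apply]
        have hc : ∀ (E b c d e : K), b ≠ 0 → E * b * c * (d / b * e) = E * d * (c * e) := by
          intro E b c d e hb
          field_simp
        have := hq0 l
        field_simp
      refine ⟨(⟨D • v, hD ▸ P.sum_mem fun l _ => P.smul_mem _ (hs l)⟩,
        ⟨D, mem_nonZeroDivisors_iff_ne_zero.mpr (Finset.prod_ne_zero_iff.mpr fun l _ =>
          mul_ne_zero (nonZeroDivisors.ne_zero (hq l)) (hs0 l))⟩), ?_⟩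
      rfl
    · intro a b hab
      exact ⟨1, congrArg _ (Subtype.ext hab)⟩
  have hbc : IsBaseChange K P.subtype := (isLocalizedModule_iff_isBaseChange (nonZeroDivisors O) K P.subtype).mp hloc
  rw [hbc.equiv.finrank_eq, Module.finrank_fin_fun]

variable [IsNoetherianRing O] [IsLocalRing O]

/-- The orthogonal of a lattice. -/
def orth {n : ℕ} (P : Submodule O (Fin n → K)) : Submodule O (Fin n → K) where
  carrier := {v | ∀ w ∈ P, ∑ l, v l * w l ∈ (1 : Submodule O K)}
  add_mem' {v v'} hv hv' w hw := by
    simp only [Pi.add_apply, add_mul, Finset.sum_add_distrib]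
    exact add_mem (hv w hw) (hv' w hw)
  zero_mem' w hw := by simp
  smul_mem' r v hv w hw := by
    simp only [Pi.smul_apply, smul_mul_assoc, ← Finset.smul_sum]
    exact Submodule.smul_mem _ r (hv w hw)

omit [IsNoetherianRing O] [IsLocalRing O] [IsDomain O] [IsFractionRing O K] in
theorem orth_le_one {n : ℕ} (P : Submodule O (Fin n → K)) (h : stdLattice O K n 1 ≤ P) :
    orth P ≤ stdLattice O K n 1 := by
  classical
  intro v hv l _
  have := hv (Pi.single l 1) (h fun l' _ => by
    by_cases h' : l' = l
    · subst h'; simpa using Submodule.one_le.mp (le_refl (1 : Submodule O K))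
    · simp [h'])
  rw [Finset.sum_eq_single l (fun l' _ h' => by simp [h']) (fun h' => absurd (Finset.mem_univ l) h'), Pi.single_eq_same,
    mul_one] at this
  exact this

omit [IsNoetherianRing O] [IsLocalRing O] [IsDomain O] [IsFractionRing O K] in
theorem le_orth {n : ℕ} (P : Submodule O (Fin n → K)) (S T : Submodule O K) (hST : S * T ≤ 1)
    (h : P ≤ stdLattice O K n T) : stdLattice O K n S ≤ orth P := fun v hv w hw =>
  Submodule.sum_mem _ fun l _ => hST (Submodule.mul_mem_mul (hv l trivial) (h hw l trivial))

omit [IsNoetherianRing O] [IsLocalRing O] in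
/-- The dual of a lattice containing the standard one is its orthogonal. -/
theorem nonempty_orth_equiv {n : ℕ} (P : Submodule O (Fin n → K)) (h : stdLattice O K n 1 ≤ P) :
    Nonempty (↥(orth P) ≃ₗ[O] Dual' (1 : Submodule O K) ↥P) := by
  classical
  have he : ∀ l, (Pi.single l (1 : K) : Fin n → K) ∈ P := fun l => h fun l' _ => by
    by_cases h' : l' = l
    · subst h'; simpa using Submodule.one_le.mp (le_refl (1 : Submodule O K))
    · simp [h']
  let Ψ : ↥(orth P) →ₗ[O] Dual' (1 : Submodule O K) ↥P :=
    { toFun := fun v =>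
        { toFun := fun w => ⟨∑ l, v.1 l * w.1 l, v.2 w.1 w.2⟩
          map_add' := fun w w' => Subtype.ext (by simp [mul_add, Finset.sum_add_distrib])
          map_smul' := fun r w => Subtype.ext (by simp [Finset.smul_sum]) }
      map_add' := fun v v' => LinearMap.ext fun w => Subtype.ext (by simp [add_mul, Finset.sum_add_distrib])
      map_smul' := fun r v => LinearMap.ext fun w => Subtype.ext (by simp [Finset.smul_sum]) }
  have hval : ∀ (φ : Dual' (1 : Submodule O K) ↥P) (w : ↥P),
      (φ w : K) = ∑ l, (φ ⟨_, he l⟩ : K) * w.1 l := by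
    intro φ w
    choose p q hq hpq using fun l => IsFractionRing.div_surjective (A := O) (w.1 l)
    have hq0 : ∀ l, algebraMap O K (q l) ≠ 0 := fun l => IsFractionRing.to_map_ne_zero_of_mem_nonZeroDivisors (hq l)
    let D : O := ∏ l, q l
    have hD : D • w = ∑ l, ((∏ l' ∈ Finset.univ.erase l, q l') * p l) • (⟨_, he l⟩ : ↥P) := by
      refine Subtype.ext ?_
      simp only [Submodule.coe_smul, Submodule.coe_sum]
      conv_lhs => rw [pi_eq_sum_univ' w.1, Finset.smul_sum]
      refine Finset.sum_congr rfl fun l _ => ?_
      funext l'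
      simp only [Pi.smul_apply, Algebra.smul_def, smul_eq_mul, D]
      rw [← Finset.prod_erase_mul Finset.univ _ (Finset.mem_univ l), ← hpq l]
      simp only [map_mul, Pi.mul_apply, Pi.algebraMap_apply, Algebra.algebraMap_self, RingHom.id_apply]
      have hc : ∀ (E b d e : K), b ≠ 0 → E * b * (d / b * e) = E * d * e := by
        intro E b d e hb
        field_simp
      exact hc _ _ _ _ (hq0 l)
    have hD0 : algebraMap O K D ≠ 0 := by
      rw [map_prod]
      exact Finset.prod_ne_zero_iff.mpr fun l _ => hq0 l
    refine mul_left_cancel₀ hD0 ?_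
    have e := congrArg (fun z => (φ z : K)) hD
    simp only [map_smul, map_sum, Submodule.coe_smul, Submodule.coe_sum, Algebra.smul_def] at e
    rw [e, Finset.mul_sum]
    refine Finset.sum_congr rfl fun l _ => ?_
    simp only [D]
    rw [← Finset.prod_erase_mul Finset.univ _ (Finset.mem_univ l), ← hpq l]
    simp only [map_mul]
    have hc : ∀ (E b d e : K), b ≠ 0 → E * d * e = E * b * (e * (d / b)) := by
      intro E b d e hb
      field_simp
    exact hc _ _ _ _ (hq0 l)
  refine ⟨LinearEquiv.ofBijective Ψ ⟨fun v v' hvv => Subtype.ext (funext fun l => ?_), fun φ => ?_⟩⟩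
  · have := congrArg Subtype.val (LinearMap.congr_fun hvv ⟨_, he l⟩)
    change ∑ l', v.1 l' * (Pi.single l (1 : K) : Fin n → K) l' = ∑ l', v'.1 l' * (Pi.single l (1 : K) : Fin n → K) l' at this
    rwa [Finset.sum_eq_single l (fun l' _ h' => by simp [h']) (fun h' => absurd (Finset.mem_univ l) h'),
      Finset.sum_eq_single l (fun l' _ h' => by simp [h']) (fun h' => absurd (Finset.mem_univ l) h'), Pi.single_eq_same,
      mul_one, mul_one] at this
  · refine ⟨⟨fun l => (φ ⟨_, he l⟩ : K), fun w hw => by rw [← hval φ ⟨w, hw⟩]; exact (φ ⟨w, hw⟩).2⟩, ?_⟩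
    exact LinearMap.ext fun w => Subtype.ext (hval φ w).symm

omit [IsDomain O] [IsNoetherianRing O] [IsLocalRing O] [IsFractionRing O K] in
/-- Isomorphic modules have isomorphic duals. -/
theorem nonempty_dual_congr {ω : Submodule O K} {M N : Type u} [AddCommGroup M] [Module O M] [AddCommGroup N]
    [Module O N] (e : M ≃ₗ[O] N) : Nonempty (Dual' ω N ≃ₗ[O] Dual' ω M) :=
  ⟨LinearEquiv.ofLinear (LinearMap.lcomp O ↥ω e.toLinearMap) (LinearMap.lcomp O ↥ω e.symm.toLinearMap)
    (by ext φ m; simp) (by ext φ m; simp)⟩

end Groth.Agent.H23TFCurv
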