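import Groth.Agent.H23TFCurv.Lattice
import Mathlib.LinearAlgebra.FreeModule.PID
import Mathlib.RingTheory.Ideal.Colon
import Mathlib.FieldTheory.IsAlgClosed.Basic
import Mathlib.RingTheory.SimpleModule.Basic

/-!
# Lattices between the conductor and the ring
-/

set_option autoImplicit false
set_option linter.style.haveILetI false

noncomputable section

universe u

open CategoryTheory Abelian

namespace Groth.Agent.H23TFCurv

variable (O : Type u) [CommRing O] [IsDomain O] (K : Type u) [Field K] [Algebra O K] [IsFractionRing O K]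

/-- The conductor, as a submodule of the fraction field. -/
abbrev condK : Submodule O K :=
  ((1 : Submodule O K).colon (Subalgebra.toSubmodule (integralClosure O K))) • (1 : Submodule O K)

variable {O K}

omit [IsDomain O] [IsFractionRing O K] in
theorem mem_condK {x : K} : x ∈ condK O K ↔
    ∀ t ∈ integralClosure O K, x * t ∈ (1 : Submodule O K) := by
  constructor
  · intro hx t ht
    refine Submodule.smul_induction_on hx (fun r hr z hz => ?_) (fun y z hy hz => by rw [add_mul]; exact add_mem hy hz)
    obtain ⟨a, rfl⟩ := Submodule.mem_one.mp hz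
    have h := Submodule.mem_colon.mp hr t ht
    rw [smul_mul_assoc, show algebraMap O K a * t = a • t from (Algebra.smul_def a t).symm, smul_comm]
    exact Submodule.smul_mem _ a h
  · intro h
    obtain ⟨r, hr⟩ := Submodule.mem_one.mp (by simpa using h 1 (integralClosure O K).one_mem : x ∈ (1 : Submodule O K))
    rw [← hr, show algebraMap O K r = r • (1 : K) from Algebra.algebraMap_eq_smul_one r]
    refine Submodule.smul_mem_smul (Submodule.mem_colon.mpr fun t ht => ?_) (Submodule.one_le.mp (le_refl (1 : Submodule O K)))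
    rw [Algebra.smul_def, hr]
    exact h t ht

omit [IsDomain O] [IsFractionRing O K] in
theorem condK_mul_le : condK O K * Subalgebra.toSubmodule (integralClosure O K) ≤ 1 :=
  Submodule.mul_le.mpr fun _ hx t ht => mem_condK.mp hx t ht

omit [IsDomain O] [IsFractionRing O K] in
theorem condK_stable {x t : K} (hx : x ∈ condK O K) (ht : t ∈ integralClosure O K) : x * t ∈ condK O K :=
  mem_condK.mpr fun s hs => by
    rw [mul_assoc]
    exact mem_condK.mp hx _ ((integralClosure O K).mul_mem ht hs)

omit [IsDomain O] [IsFractionRing O K] in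
theorem condK_le_one : condK O K ≤ 1 := fun x hx => by simpa using mem_condK.mp hx 1 (integralClosure O K).one_mem

theorem exists_ne_zero_condK (hfin : Module.Finite O ↥(integralClosure O K)) :
    ∃ c : O, c ≠ 0 ∧ algebraMap O K c ∈ condK O K := by
  classical
  obtain ⟨s, hs⟩ := hfin.fg_top
  obtain ⟨b, hb⟩ := IsLocalization.exist_integer_multiples_of_finset (nonZeroDivisors O) (s.image Subtype.val)
  refine ⟨b, nonZeroDivisors.coe_ne_zero b, mem_condK.mpr fun t ht => ?_⟩
  have hmem : (⟨t, ht⟩ : integralClosure O K) ∈ Submodule.span O (s : Set (integralClosure O K)) := hs.ge Submodule.mem_top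
  rw [← Algebra.smul_def]
  show (⟨t, ht⟩ : integralClosure O K) ∈ ((1 : Submodule O K).comap (LinearMap.lsmul O K b.1)).comap
    (Subalgebra.toSubmodule (integralClosure O K)).subtype
  refine Submodule.span_le.mpr (fun z hz => ?_) hmem
  obtain ⟨r, hr⟩ := hb z.1 (Finset.mem_image_of_mem _ hz)
  exact Submodule.mem_one.mpr ⟨r, hr⟩

/-- Linear maps on a lattice are determined by the standard vectors. -/
theorem map_eq_sum_single {n : ℕ} {P : Submodule O (Fin n → K)} {V : Type u} [AddCommGroup V] [Module O V] [Module K V]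
    [IsScalarTower O K V] (he : ∀ l, (Pi.single l (1 : K) : Fin n → K) ∈ P) (f : ↥P →ₗ[O] V) (w : ↥P) :
    f w = ∑ l, w.1 l • f ⟨_, he l⟩ := by
  classical
  choose p q hq hpq using fun l => IsFractionRing.div_surjective (A := O) (w.1 l)
  have hq0 : ∀ l, algebraMap O K (q l) ≠ 0 := fun l => IsFractionRing.to_map_ne_zero_of_mem_nonZeroDivisors (hq l)
  let D : O := ∏ l, q l
  have hDl : ∀ l, algebraMap O K D * w.1 l = algebraMap O K ((∏ l' ∈ Finset.univ.erase l, q l') * p l) := fun l => by
    simp only [D]
    rw [← Finset.prod_erase_mul Finset.univ _ (Finset.mem_univ l), ← hpq l, map_mul, map_mul, mul_assoc,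
      mul_div_cancel₀ _ (hq0 l)]
  have hD : D • w = ∑ l, ((∏ l' ∈ Finset.univ.erase l, q l') * p l) • (⟨_, he l⟩ : ↥P) := by
    refine Subtype.ext ?_
    simp only [Submodule.coe_smul, Submodule.coe_sum]
    funext l'
    rw [Finset.sum_apply, Finset.sum_eq_single l' (fun l _ h => by simp [Ne.symm h])
      (fun h => absurd (Finset.mem_univ l') h), Pi.smul_apply, Pi.smul_apply, Pi.single_eq_same, Algebra.smul_def,
      Algebra.smul_def, mul_one, hDl]
  have hD0 : algebraMap O K D ≠ 0 := by
    rw [map_prod]
    exact Finset.prod_ne_zero_iff.mpr fun l _ => hq0 l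
  have e := congrArg f hD
  simp only [map_smul, map_sum] at e
  refine smul_right_injective V hD0 ?_
  show algebraMap O K D • f w = algebraMap O K D • _
  rw [algebraMap_smul, e, Finset.smul_sum]
  exact Finset.sum_congr rfl fun l _ => by rw [smul_smul, hDl, algebraMap_smul]

omit [IsDomain O] [IsFractionRing O K] in
theorem single_mem {n : ℕ} {P : Submodule O (Fin n → K)} {S : Submodule O K} (h : stdLattice O K n S ≤ P) {x : K}
    (hx : x ∈ S) (l : Fin n) : (Pi.single l x : Fin n → K) ∈ P :=
  h fun l' _ => by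
    by_cases h' : l' = l
    · subst h'; simpa using hx
    · simp [h']

variable [IsNoetherianRing O] [IsLocalRing O] [IsAlgClosed (IsLocalRing.ResidueField O)]

omit [IsNoetherianRing O] [IsLocalRing O] [IsAlgClosed (IsLocalRing.ResidueField O)] in
theorem smul_single_mem_of_condK {n : ℕ} {P : Submodule O (Fin n → K)} (h : stdLattice O K n (condK O K) ≤ P)
    (hfin : Module.Finite O ↥(integralClosure O K)) (l : Fin n) :
    ∃ s : O, s ≠ 0 ∧ s • (Pi.single l (1 : K) : Fin n → K) ∈ P := by
  obtain ⟨c, hc, hcC⟩ := exists_ne_zero_condK hfin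
  refine ⟨c, hc, ?_⟩
  rw [← Pi.single_smul, Algebra.smul_def, mul_one]
  exact single_mem h hcC l

/-- Torsion-free modules are represented between the conductor and the ring. -/
theorem exists_between_conductor [LocCoh.IsGorensteinLocalRing O] (hdim : ringKrullDim O = 1)
    (hfin : Module.Finite O ↥(integralClosure O K)) (M : Type u) [AddCommGroup M] [Module O M] [Module.Finite O M]
    [NoZeroSMulDivisors O M] (n : ℕ) (hn : Module.finrank K (TensorProduct O K M) = n) :
    ∃ M'' : Submodule O (Fin n → K), stdLattice O K n (condK O K) ≤ M'' ∧ M'' ≤ stdLattice O K n 1 ∧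
      Nonempty (M ≃ₗ[O] ↥M'') := by
  classical
  have hω := isCanonical_one O K hdim
  obtain ⟨M₀, h₀1, h₀2, ⟨e₀⟩⟩ := exists_between O K hdim hfin M n hn
  haveI : Module.Finite O ↥M₀ := Module.Finite.equiv e₀
  haveI : NoZeroSMulDivisors O ↥M₀ := e₀.symm.injective.noZeroSMulDivisors e₀.symm (map_zero _) (map_smul _)
  obtain ⟨eD⟩ := nonempty_orth_equiv M₀ h₀1
  haveI := finite_dual hω ↥M₀
  haveI := noZeroSMul_dual hω ↥M₀
  haveI : Module.Finite O ↥(orth M₀) := Module.Finite.equiv eD.symm
  haveI : NoZeroSMulDivisors O ↥(orth M₀) := eD.injective.noZeroSMulDivisors eD (map_zero _) (map_smul _)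
  have hD1 : stdLattice O K n (condK O K) ≤ orth M₀ := le_orth M₀ _ _ condK_mul_le h₀2
  obtain ⟨N, hN1, hN2, ⟨eN⟩⟩ := exists_between O K hdim hfin ↥(orth M₀) n
    (finrank_baseChange_lattice _ (smul_single_mem_of_condK hD1 hfin))
  obtain ⟨eDN⟩ := nonempty_orth_equiv N hN1
  obtain ⟨ea⟩ := nonempty_dual_congr (ω := (1 : Submodule O K)) (eD.symm.trans eN)
  refine ⟨orth N, le_orth N _ _ condK_mul_le hN2, orth_le_one N hN1, ⟨?_⟩⟩
  exact e₀.trans ((LinearEquiv.ofBijective _ (bijective_eval hω ↥M₀)).trans (ea.symm.trans eDN.symm))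

end Groth.Agent.H23TFCurv
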