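import Groth.Agent.H23TFCurv.ExtOne
import Mathlib.RingTheory.PowerSeries.Basic
import Mathlib.RingTheory.PowerSeries.Inverse
import Mathlib.LinearAlgebra.FiniteDimensional.Basic
import Mathlib.Algebra.Module.PID

/-!
# Monomial modules over monomial curve rings

For a monomial subalgebra `A` of `k⟦X⟧` the length of `Ext¹` between monomial modules is a count of
exponents.
-/

set_option autoImplicit false
set_option linter.style.haveILetI false

noncomputable section

universe u

open CategoryTheory Abelian PowerSeries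

namespace Groth.Agent.H23TFCurv

variable (k : Type u) [Field k]

/-- The power series all of whose exponents lie in `S`. -/
def mon (S : Set ℕ) : Submodule k (PowerSeries k) where
  carrier := {f | ∀ n, coeff n f ≠ 0 → n ∈ S}
  add_mem' {f g} hf hg n hn := by
    by_cases h : coeff n f = 0
    · exact hg n (by simpa [h] using hn)
    · exact hf n h
  zero_mem' n hn := absurd (map_zero _) hn
  smul_mem' a f hf n hn := hf n fun h => hn (by simp [h])

variable {k}

theorem mem_mon {S : Set ℕ} {f : PowerSeries k} : f ∈ mon k S ↔ ∀ n, coeff n f ≠ 0 → n ∈ S := Iff.rfl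

theorem coeff_eq_zero_of_mem_mon {S : Set ℕ} {f : PowerSeries k} (hf : f ∈ mon k S) {n : ℕ} (hn : n ∉ S) :
    coeff n f = 0 := by
  by_contra h
  exact hn (hf n h)

theorem mul_mem_mon {S T U : Set ℕ} {f g : PowerSeries k} (hf : f ∈ mon k S) (hg : g ∈ mon k T)
    (h : ∀ a ∈ S, ∀ b ∈ T, a + b ∈ U) : f * g ∈ mon k U := by
  intro n hn
  rw [coeff_mul] at hn
  obtain ⟨⟨a, b⟩, hab, hne⟩ := Finset.exists_ne_zero_of_sum_ne_zero hn
  rw [Finset.mem_antidiagonal] at hab
  exact hab ▸ h a (hf a (left_ne_zero_of_mul hne)) b (hg b (right_ne_zero_of_mul hne))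

theorem X_pow_mem_mon {S : Set ℕ} {a : ℕ} (h : a ∈ S) : (X : PowerSeries k) ^ a ∈ mon k S := by
  intro n hn
  rw [coeff_X_pow] at hn
  split_ifs at hn with h'
  · exact h' ▸ h
  · exact absurd rfl hn

/-- The series shifted down by `c`. -/
def shiftDown (c : ℕ) (f : PowerSeries k) : PowerSeries k := PowerSeries.mk fun n => coeff (n + c) f

theorem X_pow_mul_shiftDown {c : ℕ} {f : PowerSeries k} (hf : ∀ n, n < c → coeff n f = 0) :
    X ^ c * shiftDown c f = f := by
  ext n
  rw [coeff_X_pow_mul']
  split_ifs with h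
  · simp [shiftDown, Nat.sub_add_cancel h]
  · exact (hf n (not_le.mp h)).symm

variable {A : Subalgebra k (PowerSeries k)} {Γ : Set ℕ} (hA : ∀ f, f ∈ A ↔ f ∈ mon k Γ)

include hA

theorem zero_mem_exponents : 0 ∈ Γ := (hA 1).mp A.one_mem 0 (by simp)

theorem add_mem_exponents {a b : ℕ} (ha : a ∈ Γ) (hb : b ∈ Γ) : a + b ∈ Γ :=
  (hA _).mp (A.mul_mem ((hA _).mpr (X_pow_mem_mon ha)) ((hA _).mpr (X_pow_mem_mon hb))) (a + b)
    (by rw [← pow_add, coeff_X_pow_self]; exact one_ne_zero)

/-- A monomial of `A`. -/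
def monA (a : ℕ) (h : a ∈ Γ) : A := ⟨X ^ a, (hA _).mpr (X_pow_mem_mon h)⟩

theorem inv_mem_of_constantCoeff_ne_zero {f : PowerSeries k} (hf : f ∈ A) (h0 : constantCoeff f ≠ 0) :
    f⁻¹ ∈ A := by
  rw [hA]
  intro n
  induction n using Nat.strong_induction_on with
  | _ n ih =>
    intro hn
    by_contra hΓ
    have hn0 : n ≠ 0 := fun h => hΓ (h ▸ zero_mem_exponents hA)
    apply hn
    rw [coeff_inv, if_neg hn0]
    refine mul_eq_zero_of_right _ (Finset.sum_eq_zero fun x hx => ?_)
    rw [Finset.mem_antidiagonal] at hx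
    split_ifs with hlt
    · by_contra hne
      exact hΓ (hx ▸ add_mem_exponents hA ((hA f).mp hf _ (left_ne_zero_of_mul hne)) (ih _ hlt (right_ne_zero_of_mul hne)))
    · rfl

theorem isUnit_iff_constantCoeff (a : A) : IsUnit a ↔ constantCoeff (a : PowerSeries k) ≠ 0 := by
  constructor
  · intro h
    have := h.map ((constantCoeff : PowerSeries k →+* k).comp A.val.toRingHom)
    exact this.ne_zero
  · intro h
    exact isUnit_iff_exists_inv.mpr ⟨⟨_, inv_mem_of_constantCoeff_ne_zero hA a.2 h⟩,
      Subtype.ext (PowerSeries.mul_inv_cancel _ h)⟩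

theorem isLocalRing_monomial : IsLocalRing A := by
  haveI : Nontrivial A := inferInstance
  refine IsLocalRing.of_nonunits_add ?_
  intro a b ha hb
  simp only [mem_nonunits_iff, isUnit_iff_constantCoeff hA, not_not] at ha hb ⊢
  push_cast
  rw [map_add, ha, hb, add_zero]

theorem length_eq_monomial (X' : Type u) [AddCommGroup X'] [Module A X'] [Module k X'] [IsScalarTower k A X'] :
    Module.length A X' = Module.length k X' := by
  haveI := isLocalRing_monomial hA
  refine length_eq_of_residue k (fun a : A => ⟨constantCoeff (a : PowerSeries k), ?_⟩) X'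
  rw [IsLocalRing.mem_maximalIdeal, mem_nonunits_iff, isUnit_iff_constantCoeff hA, not_not]
  push_cast
  simp [PowerSeries.algebraMap_apply]

theorem mem_span_monomials (G : Finset ℕ) (f : PowerSeries k) :
    f ∈ Submodule.span A ((fun a : ℕ => (X : PowerSeries k) ^ a) '' (G : Set ℕ)) ↔
      f ∈ mon k {n | ∃ a ∈ G, ∃ γ ∈ Γ, n = a + γ} := by
  classical
  constructor
  · intro h
    induction h using Submodule.span_induction with
    | mem x hx =>
      obtain ⟨a, ha, rfl⟩ := hx
      exact X_pow_mem_mon ⟨a, ha, 0, zero_mem_exponents hA, rfl⟩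
    | zero => exact zero_mem _
    | add x y _ _ hx hy => exact add_mem hx hy
    | smul r x _ hx =>
      refine mul_mem_mon ((hA _).mp r.2) hx ?_
      rintro γ hγ _ ⟨a, ha, γ', hγ', rfl⟩
      exact ⟨a, ha, γ + γ', add_mem_exponents hA hγ hγ', by omega⟩
  · intro h
    induction G using Finset.induction_on generalizing f with
    | empty =>
      have : f = 0 := by
        ext n
        rw [map_zero]
        exact coeff_eq_zero_of_mem_mon h (by simp)
      simp [this]
    | insert a G' ha ih =>
      let g : PowerSeries k := PowerSeries.mk fun m => if m ∈ Γ then coeff (m + a) f else 0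
      have hg : g ∈ A := (hA g).mpr fun m hm => by
        simp only [g, coeff_mk] at hm
        split_ifs at hm with h'
        · exact h'
        · exact absurd rfl hm
      have hrest : f - X ^ a * g ∈ mon k {n | ∃ b ∈ G', ∃ γ ∈ Γ, n = b + γ} := by
        intro n hn
        rw [map_sub, coeff_X_pow_mul'] at hn
        by_cases han : a ≤ n
        · rw [if_pos han, coeff_mk] at hn
          by_cases hγ : n - a ∈ Γ
          · rw [if_pos hγ, Nat.sub_add_cancel han, sub_self] at hn
            exact absurd rfl hn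
          · rw [if_neg hγ, sub_zero] at hn
            obtain ⟨b, hb, γ, hγ', rfl⟩ := h n hn
            rcases Finset.mem_insert.mp hb with rfl | hb'
            · exact absurd (by simpa using hγ') hγ
            · exact ⟨b, hb', γ, hγ', rfl⟩
        · rw [if_neg han, sub_zero] at hn
          obtain ⟨b, hb, γ, hγ', rfl⟩ := h n hn
          rcases Finset.mem_insert.mp hb with rfl | hb'
          · exact absurd (Nat.le_add_right b γ) han
          · exact ⟨b, hb', γ, hγ', rfl⟩
      have h1 : X ^ a * g ∈ Submodule.span A ((fun a : ℕ => (X : PowerSeries k) ^ a) '' (↑(insert a G') : Set ℕ)) := by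
        rw [show X ^ a * g = (⟨g, hg⟩ : A) • (X : PowerSeries k) ^ a from mul_comm _ _]
        exact Submodule.smul_mem _ _ (Submodule.subset_span ⟨a, by simp, rfl⟩)
      have h2 := Submodule.span_mono (Set.image_mono (Finset.coe_subset.mpr (Finset.subset_insert a G'))) (ih _ hrest)
      have := add_mem h1 h2
      rwa [add_sub_cancel] at this

variable {w : ℕ} (s : Fin w → ℕ)

omit hA in
/-- The presentation of the module generated by `1` and the `X ^ s i`. -/
def pres (M : Submodule A (PowerSeries k)) (h1 : (1 : PowerSeries k) ∈ M) (hs : ∀ i, (X : PowerSeries k) ^ s i ∈ M) :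
    A × (Fin w → A) →ₗ[A] M :=
  LinearMap.coprod (LinearMap.toSpanSingleton A M ⟨1, h1⟩)
    (∑ i, (LinearMap.toSpanSingleton A M ⟨X ^ s i, hs i⟩) ∘ₗ LinearMap.proj i)

omit hA in
theorem pres_apply (M : Submodule A (PowerSeries k)) (h1 : (1 : PowerSeries k) ∈ M)
    (hs : ∀ i, (X : PowerSeries k) ^ s i ∈ M) (v : A × (Fin w → A)) :
    (pres s M h1 hs v : PowerSeries k) = (v.1 : PowerSeries k) + ∑ i, (v.2 i : PowerSeries k) * X ^ s i := by
  simp [pres, Subalgebra.smul_def]

omit hA in
theorem pres_surjective (M : Submodule A (PowerSeries k))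
    (hM : M = Submodule.span A (insert 1 (Set.range fun i => (X : PowerSeries k) ^ s i))) (h1) (hs) :
    Function.Surjective (pres s M h1 hs) := by
  classical
  intro x
  have : (x : PowerSeries k) ∈ LinearMap.range (M.subtype ∘ₗ pres s M h1 hs) := by
    have hx : (x : PowerSeries k) ∈ Submodule.span A (insert 1 (Set.range fun i => (X : PowerSeries k) ^ s i)) :=
      hM ▸ x.2
    refine Submodule.span_le.mpr ?_ hx
    rintro _ (rfl | ⟨i, rfl⟩)
    · exact ⟨(1, 0), by rw [LinearMap.comp_apply, Submodule.subtype_apply, pres_apply]; simp⟩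
    · refine ⟨(0, Pi.single i 1), ?_⟩
      rw [LinearMap.comp_apply, Submodule.subtype_apply, pres_apply, Finset.sum_eq_single i
        (fun j _ hj => by simp [hj]) (by simp)]
      simp
  obtain ⟨v, hv⟩ := this
  exact ⟨v, Subtype.ext hv⟩

variable (c : ℕ) (hc : ∀ n, c ≤ n → n ∈ Γ)

/-- The relation `X ^ c` times the `i`th generator. -/
def testRel (i : Fin w) : A × (Fin w → A) :=
  (-monA hA (c + s i) (hc _ (Nat.le_add_right c _)), Pi.single i (monA hA c (hc c le_rfl)))

theorem testRel_mem (M : Submodule A (PowerSeries k)) (h1) (hs) (i : Fin w) :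
    testRel hA s c hc i ∈ LinearMap.ker (pres s M h1 hs) := by
  classical
  rw [LinearMap.mem_ker]
  refine Subtype.ext ?_
  rw [pres_apply, Finset.sum_eq_single i (fun j _ hj => by simp [testRel, hj]) (by simp)]
  simp [testRel, monA, pow_add]

set_option maxHeartbeats 2000000 in
set_option synthInstance.maxHeartbeats 200000 in
include hc in
/-- The length of `Ext¹` between monomial modules is a number of exponents. -/
theorem length_ext_one_monomial (M N : Submodule A (PowerSeries k))
    (hM : M = Submodule.span A (insert 1 (Set.range fun i => (X : PowerSeries k) ^ s i)))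
    (S : Set ℕ) (hN : ∀ f, f ∈ N ↔ f ∈ mon k S)
    (J : Fin w → Set ℕ)
    (hJ : ∀ v : A × (Fin w → A), (v.1 : PowerSeries k) + ∑ i, (v.2 i : PowerSeries k) * X ^ s i = 0 →
      ∀ i, (v.2 i : PowerSeries k) ∈ mon k (J i))
    (E : Fin w → Set ℕ) (hE₁ : ∀ i, ∀ j ∈ J i, ∀ e ∈ E i, ∃ p ∈ S, j + e = c + p)
    (hE₂ : ∀ h : Fin w → PowerSeries k, (∀ i, h i ∈ mon k S) →
      (∀ v : A × (Fin w → A), (v.1 : PowerSeries k) + ∑ i, (v.2 i : PowerSeries k) * X ^ s i = 0 →
        ∑ i, (v.2 i : PowerSeries k) * h i ∈ mon k {n | ∃ p ∈ S, n = c + p}) → ∀ i, h i ∈ mon k (E i))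
    (D : Finset (Fin w × ℕ)) (hD : ∀ i e, (i, e) ∈ D ↔ e ∈ E i ∧ ∀ p ∈ S, e ≠ c + p)
    (P : Finset ℕ) (hP : ∀ p, p ∈ P ↔ p ∈ S ∧ ∃ i, (i, c + s i + p) ∈ D)
    (m : ℕ) (hm : D.card = m + P.card) :
    Module.length A (Ext (ModuleCat.of A M) (ModuleCat.of A N) 1) = (m : ℕ∞) := by
  classical
  have h1 : (1 : PowerSeries k) ∈ M := hM ▸ Submodule.subset_span (Set.mem_insert _ _)
  have hs : ∀ i, (X : PowerSeries k) ^ s i ∈ M := fun i =>
    hM ▸ Submodule.subset_span (Set.mem_insert_of_mem _ ⟨i, rfl⟩)
  let π := pres s M h1 hs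
  letI : AddCommGroup (LinearMap.ker π →ₗ[A] N) :=
    @LinearMap.addCommGroup A A (LinearMap.ker π) N _ _ _ N.addCommGroup _ _ (RingHom.id A)
  obtain ⟨e⟩ := nonempty_extOneEquiv (A := A) (F := A × (Fin w → A)) (M := M) π (pres_surjective s M hM h1 hs) N
  rw [← e.length_eq, length_eq_monomial hA]
  let v₀ : Fin w → LinearMap.ker π := fun i => ⟨testRel hA s c hc i, testRel_mem hA s c hc M h1 hs i⟩
  have hker : ∀ v : LinearMap.ker π, ((v.1.1 : A) : PowerSeries k) + ∑ i, (v.1.2 i : PowerSeries k) * X ^ s i = 0 := by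
    intro v
    rw [← pres_apply s M h1 hs]
    exact congrArg Subtype.val v.2
  -- the values at the test relations determine a map
  have hrel : ∀ (φ : (LinearMap.ker π) →ₗ[A] N) (v : LinearMap.ker π),
      (X : PowerSeries k) ^ c * (φ v : PowerSeries k) = ∑ i, (v.1.2 i : PowerSeries k) * (φ (v₀ i) : PowerSeries k) := by
    intro φ v
    have hv : monA hA c (hc c le_rfl) • v = ∑ i, v.1.2 i • v₀ i := by
      refine Subtype.ext (Prod.ext (Subtype.ext ?_) (funext fun j => Subtype.ext ?_))
      · have := hker v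
        simp [v₀, testRel, monA, Prod.fst_sum, pow_add]
        rw [eq_neg_of_add_eq_zero_left (hker v), mul_neg, Finset.mul_sum]
        exact congrArg Neg.neg (Finset.sum_congr rfl fun j _ => mul_left_comm _ _ _)
      · simp [v₀, testRel, monA, Prod.snd_sum, Finset.sum_apply, Pi.single_apply, mul_comm]
    have := congrArg (fun z => ((φ z : N) : PowerSeries k)) hv
    simp only [map_smul, map_sum, Submodule.coe_smul, Submodule.coe_sum] at this
    simpa [monA, Subalgebra.smul_def] using this
  let Θ : ((LinearMap.ker π) →ₗ[A] N) →ₗ[k] (D → k) :=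
    { toFun := fun φ d => coeff d.1.2 (φ (v₀ d.1.1) : PowerSeries k)
      map_add' := fun φ ψ => by
        funext d
        rw [LinearMap.add_apply, Submodule.coe_add, map_add]
        rfl
      map_smul' := fun r φ => by
        funext d
        rw [LinearMap.smul_apply, Submodule.coe_smul_of_tower, map_smul]
        rfl }
  have hval : ∀ (φ : (LinearMap.ker π) →ₗ[A] N) (i : Fin w), (φ (v₀ i) : PowerSeries k) ∈ mon k (E i) := by
    intro φ i
    refine hE₂ (fun i => (φ (v₀ i) : PowerSeries k)) (fun i => (hN _).mp (φ (v₀ i)).2) (fun v hv => ?_) i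
    have hv' : v ∈ LinearMap.ker π := Subtype.ext ((pres_apply s M h1 hs v).trans hv)
    rw [← hrel φ ⟨v, hv'⟩]
    exact mul_mem_mon (X_pow_mem_mon (rfl : c ∈ ({c} : Set ℕ))) ((hN _).mp (φ ⟨v, hv'⟩).2)
      (fun a ha b hb => ⟨b, hb, by rw [ha]⟩)
  have hΘsurj : Function.Surjective Θ := by
    intro d
    let h : Fin w → PowerSeries k := fun i => PowerSeries.mk fun e => if he : (i, e) ∈ D then d ⟨(i, e), he⟩ else 0
    have hh : ∀ i, h i ∈ mon k (E i) := by
      intro i n hn
      simp only [h, coeff_mk] at hn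
      split_ifs at hn with he
      · exact ((hD i n).mp he).1
      · exact absurd rfl hn
    have hsum : ∀ v : LinearMap.ker π, ∑ i, (v.1.2 i : PowerSeries k) * h i ∈ mon k {n | ∃ p ∈ S, n = c + p} :=
      fun v => Submodule.sum_mem _ fun i _ => mul_mem_mon (hJ v.1 (hker v) i) (hh i) (hE₁ i)
    let sd : LinearMap.ker π → PowerSeries k := fun v => shiftDown c (∑ i, (v.1.2 i : PowerSeries k) * h i)
    have hsd : ∀ v, X ^ c * sd v = ∑ i, (v.1.2 i : PowerSeries k) * h i := fun v =>
      X_pow_mul_shiftDown fun n hn => coeff_eq_zero_of_mem_mon (hsum v) (by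
        rintro ⟨p, -, rfl⟩
        omega)
    have hsdN : ∀ v, sd v ∈ N := fun v => (hN _).mpr fun n hn => by
      simp only [sd, shiftDown, coeff_mk] at hn
      obtain ⟨p, hp, hnp⟩ := hsum v _ hn
      have : n = p := by omega
      exact this ▸ hp
    have hX : (X : PowerSeries k) ^ c ≠ 0 := pow_ne_zero _ PowerSeries.X_ne_zero
    let φ : (LinearMap.ker π) →ₗ[A] N :=
      { toFun := fun v => ⟨sd v, hsdN v⟩
        map_add' := fun v v' => Subtype.ext (mul_left_cancel₀ hX (by
          push_cast
          rw [mul_add, hsd, hsd, hsd, ← Finset.sum_add_distrib]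
          exact Finset.sum_congr rfl fun i _ => by simp [add_mul]))
        map_smul' := fun r v => Subtype.ext (mul_left_cancel₀ hX (by
          show X ^ c * sd (r • v) = X ^ c * ((r : PowerSeries k) * sd v)
          rw [hsd, mul_left_comm, hsd, Finset.mul_sum]
          exact Finset.sum_congr rfl fun i _ => by simp [mul_assoc])) }
    refine ⟨φ, funext fun d' => ?_⟩
    have : sd (v₀ d'.1.1) = h d'.1.1 := by
      refine mul_left_cancel₀ hX ?_
      rw [hsd, Finset.sum_eq_single d'.1.1 (fun j _ hj => by simp [v₀, testRel, hj]) (by simp)]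
      simp [v₀, testRel, monA]
    show coeff d'.1.2 (sd (v₀ d'.1.1)) = d d'
    rw [this]
    simp [h]
  let U : (P → k) →ₗ[k] (D → k) :=
    { toFun := fun u d => -∑ p : P, if d.1.2 = c + s d.1.1 + p.1 then u p else 0
      map_add' := fun u u' => by
        funext d
        simp only [Pi.add_apply, ← neg_add, ← Finset.sum_add_distrib]
        congr 1
        exact Finset.sum_congr rfl fun p _ => by split_ifs <;> simp
      map_smul' := fun r u => by
        funext d
        simp only [Pi.smul_apply, smul_eq_mul, RingHom.id_apply, mul_neg, Finset.mul_sum]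
        congr 1
        exact Finset.sum_congr rfl fun p _ => by split_ifs <;> simp }
  have hU : Function.Injective U := by
    rw [injective_iff_map_eq_zero]
    intro u hu
    funext p
    obtain ⟨-, i, hi⟩ := (hP p.1).mp p.2
    have := congrFun hu ⟨(i, c + s i + p.1), hi⟩
    simp only [U, LinearMap.coe_mk, AddHom.coe_mk, Pi.zero_apply, neg_eq_zero] at this
    rw [Finset.sum_eq_single p (fun q _ hq => if_neg (fun he => hq (Subtype.ext (by omega)))) (by simp), if_pos rfl] at this
    exact this
  let R₀ := LinearMap.range (LinearMap.lcomp A N (LinearMap.ker π).subtype)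
  have hres : ∀ y : A × (Fin w → A) →ₗ[A] N,
      Θ (LinearMap.lcomp A N (LinearMap.ker π).subtype y) = U fun p => coeff p.1 (y (1, 0) : PowerSeries k) := by
    intro y
    funext d
    obtain ⟨⟨i, e⟩, hd⟩ := d
    have hdec : testRel hA s c hc i = (-monA hA (c + s i) (hc _ (Nat.le_add_right c _))) • ((1, 0) : A × (Fin w → A))
        + monA hA c (hc c le_rfl) • ((0, Pi.single i 1) : A × (Fin w → A)) := by
      refine Prod.ext (by simp [testRel]) (funext fun j => ?_)
      by_cases hj : j = i
      · subst hj; simp [testRel]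
      · simp [testRel, hj]
    show coeff e (y (testRel hA s c hc i) : PowerSeries k) = -∑ p : P, _
    rw [hdec, map_add, map_smul, map_smul]
    simp only [Submodule.coe_add, Submodule.coe_smul, Subalgebra.smul_def, monA, NegMemClass.coe_neg,
      smul_eq_mul, neg_mul, map_add, map_neg]
    have h2 : coeff e ((X : PowerSeries k) ^ c * (y (0, Pi.single i 1) : PowerSeries k)) = 0 :=
      coeff_eq_zero_of_mem_mon (S := {n | ∃ p ∈ S, n = c + p})
        (mul_mem_mon (X_pow_mem_mon (rfl : c ∈ ({c} : Set ℕ))) ((hN _).mp (y (0, Pi.single i 1)).2)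
          (fun a ha b hb => ⟨b, hb, by rw [ha]⟩))
        (fun ⟨p, hp, hep⟩ => ((hD i e).mp hd).2 p hp hep)
    rw [h2, add_zero, coeff_X_pow_mul']
    congr 1
    split_ifs with hle
    · by_cases hz : coeff (e - (c + s i)) (y (1, 0) : PowerSeries k) = 0
      · rw [hz, Finset.sum_eq_zero]
        intro p _
        split_ifs with he
        · rw [← hz]; congr 1; congr 1; omega
        · rfl
      · have hpP : e - (c + s i) ∈ P := (hP _).mpr ⟨(hN _).mp (y (1, 0)).2 _ hz, i, by
          rwa [Nat.add_sub_cancel' hle]⟩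
        rw [Finset.sum_eq_single ⟨_, hpP⟩ (fun q _ hq => if_neg (fun he => hq (Subtype.ext (show (q : ℕ) = e - (c + s i) by
            have : e = c + s i + q.1 := he
            omega)))) (by simp),
          if_pos (Nat.add_sub_cancel' hle).symm]
    · rw [Finset.sum_eq_zero]
      intro p _
      rw [if_neg (by omega)]
  have hcom : ∀ φ : (LinearMap.ker π) →ₗ[A] N, φ ∈ R₀ ↔ Θ φ ∈ LinearMap.range U := by
    intro φ
    constructor
    · rintro ⟨y, rfl⟩
      exact ⟨_, (hres y).symm⟩
    · rintro ⟨u, hu⟩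
      let n₀ : PowerSeries k := PowerSeries.mk fun p => if hp : p ∈ P then u ⟨p, hp⟩ else 0
      have hn₀ : n₀ ∈ N := (hN _).mpr fun p hp => by
        simp only [n₀, coeff_mk] at hp
        split_ifs at hp with h'
        · exact ((hP p).mp h').1
        · exact absurd rfl hp
      let y₀ : A × (Fin w → A) →ₗ[A] N := LinearMap.toSpanSingleton A N ⟨n₀, hn₀⟩ ∘ₗ LinearMap.fst A A (Fin w → A)
      let ψ : (LinearMap.ker π) →ₗ[A] N := (show (LinearMap.ker π) →ₗ[A] N from φ) - LinearMap.lcomp A N (LinearMap.ker π).subtype y₀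
      have hψ : Θ ψ = 0 := by
        show Θ (φ - _) = 0
        rw [map_sub Θ, hres, ← hu, sub_eq_zero]
        congr 1
        funext p
        simp [y₀, n₀, LinearMap.toSpanSingleton_apply]
      have hψS : ∀ i, (ψ (v₀ i) : PowerSeries k) ∈ mon k {n | ∃ p ∈ S, n = c + p} := by
        intro i n hn
        by_contra hne
        exact hn (congrFun hψ ⟨(i, n), (hD i n).mpr ⟨hval ψ i n hn, fun p hp he => hne ⟨p, hp, he⟩⟩⟩)
      have hlow : ∀ i, X ^ c * shiftDown c (ψ (v₀ i) : PowerSeries k) = (ψ (v₀ i) : PowerSeries k) := fun i =>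
        X_pow_mul_shiftDown fun n hn => coeff_eq_zero_of_mem_mon (hψS i) (by
          rintro ⟨p, -, rfl⟩
          omega)
      have hnN : ∀ i, shiftDown c (ψ (v₀ i) : PowerSeries k) ∈ N := fun i => (hN _).mpr fun n hn => by
        simp only [shiftDown, coeff_mk] at hn
        obtain ⟨p, hp, hnp⟩ := hψS i _ hn
        have : n = p := by omega
        exact this ▸ hp
      let y₁ : A × (Fin w → A) →ₗ[A] N :=
        (∑ i, LinearMap.toSpanSingleton A N ⟨_, hnN i⟩ ∘ₗ LinearMap.proj i) ∘ₗ LinearMap.snd A A (Fin w → A)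
      refine ⟨y₀ + y₁, ?_⟩
      have : LinearMap.lcomp A N (LinearMap.ker π).subtype y₁ = ψ := by
        refine LinearMap.ext fun v => Subtype.ext (mul_left_cancel₀ (pow_ne_zero c PowerSeries.X_ne_zero) ?_)
        rw [hrel ψ v]
        simp only [y₁, LinearMap.lcomp_apply, LinearMap.comp_apply, LinearMap.snd_apply, Submodule.subtype_apply,
          LinearMap.sum_apply, LinearMap.proj_apply, LinearMap.toSpanSingleton_apply, Submodule.coe_sum,
          Submodule.coe_smul, Subalgebra.smul_def, smul_eq_mul, Finset.mul_sum]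
        exact Finset.sum_congr rfl fun i _ => by rw [mul_left_comm, hlow]
      rw [map_add, this]
      simp [ψ]
  let Θ' : ((LinearMap.ker π) →ₗ[A] N) →ₗ[k] (D → k) ⧸ LinearMap.range U := (LinearMap.range U).mkQ ∘ₗ Θ
  have hk : LinearMap.ker Θ' = R₀.restrictScalars k := by
    ext φ
    simp [Θ', hcom]
  let eq : (((LinearMap.ker π) →ₗ[A] N) ⧸ R₀.restrictScalars k) ≃ₗ[k] (D → k) ⧸ LinearMap.range U :=
    (Submodule.quotEquivOfEq _ _ hk.symm).trans
      (Θ'.quotKerEquivOfSurjective ((Submodule.mkQ_surjective _).comp hΘsurj))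
  rw [((Submodule.Quotient.restrictScalarsEquiv k R₀).symm.trans eq).length_eq, Module.length_eq_finrank]
  congr 1
  have hf := Submodule.finrank_quotient_add_finrank (LinearMap.range U)
  rw [LinearMap.finrank_range_of_inj hU, Module.finrank_fintype_fun_eq_card, Module.finrank_fintype_fun_eq_card,
    Fintype.card_coe, Fintype.card_coe] at hf
  omega

end Groth.Agent.H23TFCurv
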