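import Groth.Agent.H23TFCurv.Monomial

/-!
# Auxiliary facts for computing `Ext¹` of monomial modules
-/

set_option autoImplicit false
set_option linter.style.haveILetI false

noncomputable section

universe u

open CategoryTheory Abelian PowerSeries

namespace Groth.Agent.H23TFCurv

variable {k : Type u} [Field k] {A : Subalgebra k (PowerSeries k)} {Γ : Set ℕ} (hA : ∀ f, f ∈ A ↔ f ∈ mon k Γ)
variable {w : ℕ} {s : Fin w → ℕ}

include hA

/-- The monomial relations force the supports of the values. -/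
theorem exponent_of_test {c : ℕ} {S : Set ℕ} {h : Fin w → PowerSeries k}
    (hh : ∀ v : A × (Fin w → A), (v.1 : PowerSeries k) + ∑ i, (v.2 i : PowerSeries k) * X ^ s i = 0 →
      ∑ i, (v.2 i : PowerSeries k) * h i ∈ mon k {n | ∃ p ∈ S, n = c + p})
    (i : Fin w) {j : ℕ} (hj : j ∈ Γ) (hjs : j + s i ∈ Γ) {e : ℕ} (he : coeff e (h i) ≠ 0) :
    ∃ p ∈ S, j + e = c + p := by
  classical
  have := hh (-monA hA (j + s i) hjs, Pi.single i (monA hA j hj)) (by
    rw [Finset.sum_eq_single i (fun l _ hl => by simp [hl]) (by simp)]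
    simp [monA, pow_add])
  rw [Finset.sum_eq_single i (fun l _ hl => by simp [hl]) (by simp)] at this
  simp only [Pi.single_eq_same, monA] at this
  exact this (j + e) (by rwa [coeff_X_pow_mul', if_pos (Nat.le_add_right j e), Nat.add_sub_cancel_left])

/-- With one generator besides `1` the coefficient of a relation lies in the conductor into `A`. -/
theorem relation_single {a : ℕ} (v : A × (Fin 1 → A))
    (hv : (v.1 : PowerSeries k) + ∑ i, (v.2 i : PowerSeries k) * X ^ ((fun _ => a) i) = 0) (i : Fin 1) :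
    (v.2 i : PowerSeries k) ∈ mon k {m | m ∈ Γ ∧ m + a ∈ Γ} := by
  obtain rfl := Subsingleton.elim i 0
  intro m hm
  refine ⟨(hA _).mp (v.2 0).2 m hm, (hA _).mp v.1.2 (m + a) fun h0 => hm ?_⟩
  have := congrArg (coeff (m + a)) hv
  rw [map_add, map_zero, Fin.sum_univ_one, h0, zero_add, coeff_mul_X_pow] at this
  exact this

/-- Over the ring without terms of degree `1, …, n - 1` relations have no constant terms. -/
theorem relation_cubical {n : ℕ} (hΓ : ∀ m, m ∈ Γ ↔ m = 0 ∨ n ≤ m) (hs0 : ∀ i, 0 < s i) (hsn : ∀ i, s i < n)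
    (hsi : Function.Injective s) (v : A × (Fin w → A))
    (hv : (v.1 : PowerSeries k) + ∑ i, (v.2 i : PowerSeries k) * X ^ s i = 0) (i : Fin w) :
    (v.2 i : PowerSeries k) ∈ mon k {m | n ≤ m} := by
  intro m hm
  rcases (hΓ m).mp ((hA _).mp (v.2 i).2 m hm) with rfl | hle
  · exfalso
    apply hm
    have := congrArg (coeff (s i)) hv
    rw [map_add, map_zero, map_sum, coeff_eq_zero_of_mem_mon ((hA _).mp v.1.2)
      (by rw [hΓ]; have := hs0 i; have := hsn i; omega), zero_add, Finset.sum_eq_single i ?_ (by simp),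
      coeff_mul_X_pow', if_pos le_rfl, Nat.sub_self] at this
    · exact this
    intro l _ hl
    rw [coeff_mul_X_pow']
    split_ifs with hle
    · have hne : s l ≠ s i := fun h => hl (hsi h)
      exact coeff_eq_zero_of_mem_mon ((hA _).mp (v.2 l).2) (by rw [hΓ]; have := hsn i; omega)
    · rfl
  · exact hle

omit hA in
/-- `Ext` only depends on the isomorphism classes. -/
theorem nonempty_extEquiv_of_iso {R : Type u} [CommRing R] {M M' N N' : ModuleCat.{u} R} (e : M ≅ M') (f : N ≅ N')
    (n : ℕ) : Nonempty (Ext M N n ≃ₗ[R] Ext M' N' n) :=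
  ⟨LinearEquiv.ofLinear
    (Ext.precompOfLinear (Ext.mk₀ e.inv) R N' (zero_add n) ∘ₗ Ext.postcompOfLinear (Ext.mk₀ f.hom) R M (add_zero n))
    (Ext.precompOfLinear (Ext.mk₀ e.hom) R N (zero_add n) ∘ₗ Ext.postcompOfLinear (Ext.mk₀ f.inv) R M' (add_zero n))
    (by ext x; simp [Ext.comp_assoc_of_second_deg_zero, Ext.mk₀_comp_mk₀_assoc, Ext.mk₀_comp_mk₀])
    (by ext x; simp [Ext.comp_assoc_of_second_deg_zero, Ext.mk₀_comp_mk₀_assoc, Ext.mk₀_comp_mk₀])⟩

end Groth.Agent.H23TFCurv
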