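import Mathlib.RingTheory.PowerSeries.Order
import Mathlib.RingTheory.PowerSeries.Inverse
import Mathlib.LinearAlgebra.FiniteDimensional.Basic
import Mathlib.LinearAlgebra.Dimension.StrongRankCondition
import Mathlib.Data.Set.Card

/-!
# Sets of orders of subspaces of power series
-/

set_option autoImplicit false

noncomputable section

universe u

open PowerSeries

namespace Groth.Agent.H23TFCurv

variable {k : Type u} [Field k] (V : Submodule k (PowerSeries k))

/-- The set of orders of the elements of a subspace. -/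
def ordSet : Set ℕ := {n | ∃ f ∈ V, PowerSeries.order f = n}

variable {V} {N : ℕ} (hV : ∀ g : PowerSeries k, (∀ i < N, coeff i g = 0) → g ∈ V)

include hV

theorem mem_ordSet_of_le {n : ℕ} (hn : N ≤ n) : n ∈ ordSet V :=
  ⟨X ^ n, hV _ fun i hi => by rw [coeff_X_pow, if_neg (by omega)], order_X_pow n⟩

theorem finite_gaps : (ordSet V)ᶜ.Finite :=
  (Set.finite_lt_nat N).subset fun n hn => by
    by_contra h
    exact hn (mem_ordSet_of_le hV (not_lt.mp h))

/-- Modulo the subspace every series is supported on the gaps. -/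
theorem exists_sub_mem (g : PowerSeries k) :
    ∃ r : PowerSeries k, (∀ i, i ∈ ordSet V → coeff i r = 0) ∧ g - r ∈ V := by
  classical
  suffices h : ∀ j, j ≤ N → ∀ g : PowerSeries k, (∀ i, i < N - j → coeff i g = 0) →
      ∃ r : PowerSeries k, (∀ i, i ∈ ordSet V → coeff i r = 0) ∧ g - r ∈ V from h N le_rfl g fun i hi => by omega
  intro j
  induction j with
  | zero => exact fun _ g hg => ⟨0, fun i _ => map_zero _, hV _ fun i hi => by simp [hg i (by omega)]⟩
  | succ j ih =>
    intro hj g hg
    set n := N - (j + 1) with hn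
    by_cases hnΔ : n ∈ ordSet V
    · obtain ⟨f, hfV, hfn⟩ := hnΔ
      obtain ⟨hfn1, hfl⟩ := order_eq_nat.mp hfn
      obtain ⟨r, hr, hrV⟩ := ih (by omega) (g - (coeff n g / coeff n f) • f) fun i hi => by
        rw [map_sub, coeff_smul, smul_eq_mul]
        rcases lt_trichotomy i n with hin | rfl | hin
        · rw [hg i hin, hfl i hin, mul_zero, sub_zero]
        · rw [div_mul_cancel₀ _ hfn1, sub_self]
        · omega
      refine ⟨r, hr, ?_⟩
      have := V.add_mem hrV (V.smul_mem (coeff n g / coeff n f) hfV)
      rwa [show g - (coeff n g / coeff n f) • f - r + (coeff n g / coeff n f) • f = g - r by abel] at this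
    · obtain ⟨r, hr, hrV⟩ := ih (by omega) (g - coeff n g • X ^ n) fun i hi => by
        rw [map_sub, coeff_smul, smul_eq_mul, coeff_X_pow]
        rcases lt_trichotomy i n with hin | rfl | hin
        · rw [hg i hin, if_neg hin.ne, mul_zero, sub_zero]
        · rw [if_pos rfl, mul_one, sub_self]
        · omega
      refine ⟨r + coeff n g • X ^ n, fun i hi => ?_, by rwa [← sub_sub, sub_right_comm]⟩
      rw [map_add, hr i hi, coeff_smul, coeff_X_pow, if_neg (fun h : i = n => hnΔ (h ▸ hi)), smul_zero, add_zero]

omit hV in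
theorem eq_zero_of_supported {r : PowerSeries k} (hr : ∀ i, i ∈ ordSet V → coeff i r = 0) (hrV : r ∈ V) : r = 0 := by
  by_contra h
  obtain ⟨m, hm⟩ := ENat.ne_top_iff_exists.mp (mt order_eq_top.mp h)
  exact (order_eq_nat.mp hm.symm).1 (hr m ⟨r, hrV, hm.symm⟩)

/-- The codimension is the number of gaps. -/
theorem finrank_quotient : Module.finrank k (PowerSeries k ⧸ V) = (ordSet V)ᶜ.ncard := by
  classical
  haveI := (finite_gaps hV).fintype
  let ι : (↥(ordSet V)ᶜ → k) →ₗ[k] PowerSeries k :=
    { toFun := fun u => PowerSeries.mk fun i => if h : i ∈ (ordSet V)ᶜ then u ⟨i, h⟩ else 0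
      map_add' := fun u v => by ext i; simp only [coeff_mk, map_add]; split_ifs <;> simp
      map_smul' := fun c u => by ext i; simp only [coeff_mk, coeff_smul, RingHom.id_apply]; split_ifs <;> simp }
  have hι : ∀ u i, i ∈ ordSet V → coeff i (ι u) = 0 := fun u i hi => by
    simp only [ι, LinearMap.coe_mk, AddHom.coe_mk]
    rw [coeff_mk, dif_neg (Set.notMem_compl_iff.mpr hi)]
  have hbij : Function.Bijective (V.mkQ ∘ₗ ι) := by
    refine ⟨(injective_iff_map_eq_zero _).mpr fun u hu => ?_, fun x => ?_⟩
    · have := eq_zero_of_supported (hι u) ((Submodule.Quotient.mk_eq_zero _).mp hu)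
      funext i
      have h2 := congrArg (coeff (i : ℕ)) this
      simp only [ι, LinearMap.coe_mk, AddHom.coe_mk, coeff_mk, map_zero, dif_pos i.2] at h2
      exact h2
    · obtain ⟨g, rfl⟩ := Submodule.Quotient.mk_surjective _ x
      obtain ⟨r, hr, hrV⟩ := exists_sub_mem hV g
      refine ⟨fun i => coeff (i : ℕ) r, (Submodule.Quotient.eq _).mpr ?_⟩
      have : ι (fun i => coeff (i : ℕ) r) = r := by
        ext i
        simp only [ι, LinearMap.coe_mk, AddHom.coe_mk, coeff_mk]
        split_ifs with h
        · rfl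
        · exact (hr i (Set.notMem_compl_iff.mp h)).symm
      rw [this, ← neg_sub]
      exact V.neg_mem hrV
  rw [← (LinearEquiv.ofBijective _ hbij).finrank_eq, Module.finrank_fintype_fun_eq_card, ← Nat.card_coe_set_eq,
    Nat.card_eq_fintype_card]

/-- The subspace contains the series supported above its conductor. -/
theorem mem_of_conductor {cS : ℕ} (hcS : ∀ n, cS ≤ n → n ∈ ordSet V) {g : PowerSeries k}
    (hg : ∀ i < cS, coeff i g = 0) : g ∈ V := by
  suffices h : ∀ d, d ≤ N → ∀ g : PowerSeries k, (∀ i < cS, coeff i g = 0) → (∀ i < N - d, coeff i g = 0) → g ∈ V from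
    h N le_rfl g hg fun i hi => by omega
  intro d
  induction d with
  | zero => exact fun _ g _ hg => hV g fun i hi => hg i (by omega)
  | succ d ih =>
    intro hd g hg1 hg
    set n := N - (d + 1) with hn
    by_cases hnc : cS ≤ n
    · obtain ⟨f, hfV, hfn⟩ := hcS n hnc
      obtain ⟨hfn1, hfl⟩ := order_eq_nat.mp hfn
      have := ih (by omega) (g - (coeff n g / coeff n f) • f) (fun i hi => by
        rw [map_sub, coeff_smul, hg1 i hi, hfl i (by omega), smul_zero, sub_zero]) fun i hi => by
        rw [map_sub, coeff_smul, smul_eq_mul]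
        rcases lt_trichotomy i n with hin | rfl | hin
        · rw [hg i hin, hfl i hin, mul_zero, sub_zero]
        · rw [div_mul_cancel₀ _ hfn1, sub_self]
        · omega
      simpa using V.add_mem this (V.smul_mem (coeff n g / coeff n f) hfV)
    · exact ih (by omega) g hg1 fun i hi => hg1 i (by omega)

end Groth.Agent.H23TFCurv
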