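import Groth.Agent.H3CAlg.TorBasic
import Mathlib.RingTheory.FiniteLength

/-!
# `Tor₁` against a torsion-free module of maps that are isomorphisms up to torsion
-/

set_option autoImplicit false
set_option linter.style.haveILetI false

universe u

open CategoryTheory CategoryTheory.Limits MonoidalCategory
open scoped TensorProduct

namespace Groth.Agent.H23TFCurv

section retr

variable {O : Type u} [CommRing O]

/-- A nonzero element killing a finite-length module over a domain that is not a field. -/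
theorem exists_ne_zero_smul_eq_zero [IsDomain O] (T : Type u) [AddCommGroup T] [Module O T]
    (hO : ¬ IsField O) (h : IsFiniteLength O T) : ∃ a : O, a ≠ 0 ∧ ∀ t : T, a • t = 0 := by
  induction h with
  | of_subsingleton => exact ⟨1, one_ne_zero, fun t => Subsingleton.elim _ _⟩
  | of_simple_quotient h ih =>
    rename_i M _ _ N _
    obtain ⟨a, ha, hN⟩ := ih
    obtain ⟨I, hI, ⟨e⟩⟩ := isSimpleModule_iff_quot_maximal.mp ‹IsSimpleModule O (M ⧸ N)›
    obtain ⟨b, hb, hb0⟩ : ∃ b ∈ I, b ≠ (0 : O) :=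
      Submodule.exists_mem_ne_zero_of_ne_bot (Ring.ne_bot_of_isMaximal_of_not_isField hI hO)
    refine ⟨a * b, mul_ne_zero ha hb0, fun t => ?_⟩
    have hmem : b • t ∈ N := by
      rw [← Submodule.Quotient.mk_eq_zero, Submodule.Quotient.mk_smul, ← e.map_eq_zero_iff, map_smul]
      obtain ⟨q, hq⟩ := Submodule.Quotient.mk_surjective I (e (Submodule.Quotient.mk t))
      rw [← hq, ← Submodule.Quotient.mk_smul, Submodule.Quotient.mk_eq_zero]
      exact I.mul_mem_right q hb
    rw [mul_smul]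
    exact congrArg Subtype.val (hN ⟨b • t, hmem⟩)

/-- An injective map with finite-length cokernel has a quasi-inverse. -/
theorem exists_quasiInverse [IsDomain O] {A B : Type u} [AddCommGroup A] [Module O A] [AddCommGroup B] [Module O B]
    (hO : ¬ IsField O) (f : A →ₗ[O] B) (hf : Function.Injective f) (hT : IsFiniteLength O (B ⧸ LinearMap.range f)) :
    ∃ (a : O) (g : B →ₗ[O] A), a ≠ 0 ∧ g.comp f = a • LinearMap.id ∧ f.comp g = a • LinearMap.id := by
  obtain ⟨a, ha, hkill⟩ := exists_ne_zero_smul_eq_zero _ hO hT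
  have hmem : ∀ x, (LinearMap.lsmul O B a) x ∈ LinearMap.range f := fun x => by
    rw [LinearMap.lsmul_apply, ← Submodule.Quotient.mk_eq_zero, Submodule.Quotient.mk_smul]
    exact hkill _
  let g : B →ₗ[O] A :=
    (LinearEquiv.ofInjective f hf).symm.toLinearMap.comp ((LinearMap.lsmul O B a).codRestrict _ hmem)
  have hg : ∀ x, f (g x) = a • x := fun x =>
    congrArg Subtype.val ((LinearEquiv.ofInjective f hf).apply_symm_apply ⟨a • x, hmem x⟩)
  refine ⟨a, g, ha, LinearMap.ext fun x => hf ?_, LinearMap.ext hg⟩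
  show f (g (f x)) = f (a • x)
  rw [hg, map_smul]

end retr

section tor

variable {O : Type u} [CommRing O]

open Groth.Agent.H3CAlg in
/-- If `N ⊗ X₁ → N ⊗ X₂` is injective and `X₁` is projective, then `Tor₁` of `X₂` and `X₃` agree. -/
theorem nonempty_iso_of_injective (N : ModuleCat.{u} O) (S : ShortComplex (ModuleCat.{u} O)) (hS : S.ShortExact)
    [Projective S.X₁] (hinj : Function.Injective (S.f.hom.lTensor N)) :
    Nonempty (((Tor (ModuleCat.{u} O) 1).obj N).obj S.X₂ ≅ ((Tor (ModuleCat.{u} O) 1).obj N).obj S.X₃) := by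
  obtain ⟨⟨w, hw⟩, -, -⟩ := Tor.les₂ N S hS 1
  obtain ⟨-, -, δ, w₁, w₂, h₁, -⟩ := Tor.les₂ N S hS 0
  have hm : Mono (((Tor (ModuleCat.{u} O) 0).obj N).map S.f) := by
    rw [← mono_comp_iff_of_mono (((Tor (ModuleCat.{u} O) 0).obj N).map S.f) ((Tor.zeroIso N).hom.app S.X₂),
      (Tor.zeroIso N).hom.naturality S.f, mono_comp_iff_of_isIso, ModuleCat.mono_iff_injective]
    exact hinj
  have hδ : δ = 0 := by rw [← cancel_mono (((Tor (ModuleCat.{u} O) 0).obj N).map S.f), w₂, zero_comp]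
  haveI : Mono (((Tor (ModuleCat.{u} O) 1).obj N).map S.g) :=
    hw.mono_g ((isZero_Tor_succ_of_projective _ N S.X₁ 0).eq_of_src _ _)
  haveI : Epi (((Tor (ModuleCat.{u} O) 1).obj N).map S.g) := h₁.epi_f hδ
  haveI := isIso_of_mono_of_epi (((Tor (ModuleCat.{u} O) 1).obj N).map S.g)
  exact ⟨asIso (((Tor (ModuleCat.{u} O) 1).obj N).map S.g)⟩

open Groth.Agent.H3CAlg in
/-- If `X₂` is projective, `Tor₁` of `X₃` is the kernel of `N ⊗ X₁ → N ⊗ X₂`. -/
theorem nonempty_ker_equiv (N : ModuleCat.{u} O) (S : ShortComplex (ModuleCat.{u} O)) (hS : S.ShortExact)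
    [Projective S.X₂] :
    Nonempty (LinearMap.ker (S.f.hom.lTensor N) ≃ₗ[O] ↑(((Tor (ModuleCat.{u} O) 1).obj N).obj S.X₃)) := by
  obtain ⟨-, -, δ, w₁, w₂, h₁, h₂⟩ := Tor.les₂ N S hS 0
  haveI hmono : Mono δ := h₁.mono_g ((isZero_Tor_succ_of_projective _ N S.X₂ 0).eq_of_src _ _)
  let Φ := δ ≫ (Tor.zeroIso N).hom.app S.X₁
  have hΦ : Function.Injective Φ.hom := (ModuleCat.mono_iff_injective _).mp inferInstance
  have hw : Φ ≫ ((tensoringLeft (ModuleCat.{u} O)).obj N).map S.f = 0 := by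
    simp only [Φ, Category.assoc]
    rw [← (Tor.zeroIso N).hom.naturality S.f, ← Category.assoc, w₂, zero_comp]
  have hex : (ShortComplex.mk Φ (((tensoringLeft (ModuleCat.{u} O)).obj N).map S.f) hw).Exact :=
    (ShortComplex.exact_iff_of_iso (ShortComplex.isoMk (Iso.refl _) ((Tor.zeroIso N).app S.X₁)
      ((Tor.zeroIso N).app S.X₂) (by simp [Φ]) ((Tor.zeroIso N).hom.naturality S.f).symm :
        ShortComplex.mk δ _ w₂ ≅ ShortComplex.mk Φ _ hw)).mp h₂
  have hrange : LinearMap.range Φ.hom = LinearMap.ker (S.f.hom.lTensor N) := by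
    rw [ShortComplex.moduleCat_exact_iff_range_eq_ker] at hex
    exact hex
  exact ⟨((LinearEquiv.ofInjective Φ.hom hΦ).trans (LinearEquiv.ofEq _ _ hrange)).symm⟩

end tor

end Groth.Agent.H23TFCurv
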