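import Groth.Agent.H23TFCurv.Dual
import Groth.Agent.H23TFCurv.Closed
import Groth.Agent.H23TFCurv.OrderSet
import Groth.Agent.H3CAlg.Eakin
import Mathlib.RingTheory.Localization.FractionRing
import Mathlib.RingTheory.PowerSeries.Inverse

/-!
# Value sets of canonical ideals of unibranch curve singularities
-/

set_option autoImplicit false
set_option linter.style.haveILetI false

noncomputable section

universe u

open PowerSeries

namespace Groth.Agent.H23TFCurv

variable {k : Type u} [Field k] {A : Subalgebra k (PowerSeries k)} (hA : Module.Finite A (PowerSeries k))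
  (hcl : ∀ f : PowerSeries k, (∀ n : ℕ, ∃ g ∈ A, (n : ℕ∞) ≤ order (f - g)) → f ∈ A)

include hcl in
theorem isUnit_iff_constantCoeff_closed (a : A) : IsUnit a ↔ constantCoeff (a : PowerSeries k) ≠ 0 := by
  constructor
  · intro h
    exact (h.map ((constantCoeff : PowerSeries k →+* k).comp A.val.toRingHom)).ne_zero
  · intro h
    suffices hmem : (a : PowerSeries k)⁻¹ ∈ A from
      isUnit_iff_exists_inv.mpr ⟨⟨_, hmem⟩, Subtype.ext (PowerSeries.mul_inv_cancel _ h)⟩
    set a0 := constantCoeff (a : PowerSeries k) with ha0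
    set x : PowerSeries k := 1 - C a0⁻¹ * (a : PowerSeries k) with hxdef
    have hC : ∀ r : k, (C r : PowerSeries k) ∈ A := fun r => by
      rw [← algebraMap_eq]
      exact A.algebraMap_mem r
    have hxA : x ∈ A := A.sub_mem A.one_mem (A.mul_mem (hC _) a.2)
    have hx0 : X ∣ x := X_dvd_iff.mpr (by
      rw [hxdef, map_sub, map_one, map_mul, constantCoeff_C, ← ha0, inv_mul_cancel₀ h, sub_self])
    refine hcl _ fun n => ⟨C a0⁻¹ * ∑ i ∈ Finset.range n, x ^ i,
      A.mul_mem (hC _) (sum_mem fun i _ => pow_mem hxA _), nat_le_order _ _ fun i hi => ?_⟩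
    have key : (a : PowerSeries k)⁻¹ - C a0⁻¹ * ∑ i ∈ Finset.range n, x ^ i = (a : PowerSeries k)⁻¹ * x ^ n := by
      have h1 := mul_neg_geom_sum x n
      linear_combination
        (C a0⁻¹ * ∑ i ∈ Finset.range n, x ^ i) * PowerSeries.mul_inv_cancel (a : PowerSeries k) h -
          (a : PowerSeries k)⁻¹ * h1
    rw [key]
    exact X_pow_dvd_iff.mp ((pow_dvd_pow_of_dvd hx0 n).mul_left _) i hi

include hcl in
theorem isLocalRing_closed : IsLocalRing A := by
  refine IsLocalRing.of_nonunits_add ?_
  intro a b ha hb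
  simp only [mem_nonunits_iff, isUnit_iff_constantCoeff_closed hcl, not_not] at ha hb ⊢
  push_cast
  rw [map_add, ha, hb, add_zero]

include hA in
theorem isNoetherianRing_closed : IsNoetherianRing A :=
  H3CAlg.isNoetherianRing_of_injective_of_finite A (PowerSeries k) Subtype.val_injective

variable {c : ℕ} (hc0 : c ≠ 0) (hhigh : ∀ g : PowerSeries k, (∀ i < c, coeff i g = 0) → g ∈ A)

include hcl hc0 hhigh in
theorem ringKrullDim_closed [IsLocalRing A] : ringKrullDim A = 1 := by
  let T : A := ⟨X ^ c, hhigh _ fun i hi => by rw [coeff_X_pow, if_neg hi.ne]⟩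
  have hT0 : T ≠ 0 := fun h => pow_ne_zero c PowerSeries.X_ne_zero (congrArg Subtype.val h)
  have hTu : ¬ IsUnit T := fun h => (isUnit_iff_constantCoeff_closed hcl T).mp h (by
    show constantCoeff (X ^ c : PowerSeries k) = 0
    rw [map_pow, constantCoeff_X, zero_pow hc0])
  have h1 : Ring.KrullDimLE 1 A := Ring.krullDimLE_one_iff_of_isPrime_bot.mpr fun P hP0 hP => by
    suffices P = IsLocalRing.maximalIdeal A from this ▸ inferInstance
    refine le_antisymm (IsLocalRing.le_maximalIdeal hP.ne_top) fun x hx => ?_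
    obtain ⟨a, haP, ha0⟩ := Submodule.exists_mem_ne_zero_of_ne_bot hP0
    obtain ⟨d, hd⟩ := ENat.ne_top_iff_exists.mp (mt order_eq_top.mp fun h => ha0 (Subtype.ext h) :
      order (a : PowerSeries k) ≠ ⊤)
    rw [IsLocalRing.mem_maximalIdeal, mem_nonunits_iff, isUnit_iff_constantCoeff_closed hcl, not_not] at hx
    have hdvd : X ^ (d + c) ∣ (x : PowerSeries k) ^ (d + c) := pow_dvd_pow_of_dvd (X_dvd_iff.mpr hx) _
    obtain ⟨z, hz⟩ := hdvd
    obtain ⟨v, hv⟩ : ∃ v, (a : PowerSeries k) = X ^ d * v :=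
      X_pow_dvd_iff.mpr fun i hi => coeff_of_lt_order i (by rw [← hd]; exact_mod_cast hi)
    have hv0 : constantCoeff v ≠ 0 := by
      have := (order_eq_nat.mp hd.symm).1
      rwa [hv, coeff_X_pow_mul', if_pos le_rfl, Nat.sub_self, coeff_zero_eq_constantCoeff_apply] at this
    let y : A := ⟨X ^ c * (z * v⁻¹), hhigh _ fun i hi => by rw [coeff_X_pow_mul', if_neg (by omega)]⟩
    have : x ^ (d + c) = a * y := Subtype.ext (by
      show (x : PowerSeries k) ^ (d + c) = (a : PowerSeries k) * (X ^ c * (z * v⁻¹))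
      rw [hz, hv, pow_add]
      linear_combination (-(X ^ d * X ^ c * z)) * PowerSeries.mul_inv_cancel v hv0)
    exact hP.mem_of_pow_mem (d + c) (this ▸ P.mul_mem_right y haP)
  refine le_antisymm (Ring.krullDimLE_iff.mp h1) ?_
  by_contra hlt
  rw [not_le] at hlt
  have hf : IsField A := by
    haveI : Ring.KrullDimLE 0 A := Ring.krullDimLE_iff.mpr (by
      cases hd' : ringKrullDim A with
      | bot => exact bot_le
      | coe e =>
        rw [hd'] at hlt
        have he : e < 1 := by exact_mod_cast hlt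
        rw [ENat.lt_one_iff_eq_zero.mp he]
        rfl)
    exact Ring.KrullDimLE.isField_of_isDomain
  letI := hf.toField
  exact hTu (isUnit_iff_ne_zero.mpr hT0)

end Groth.Agent.H23TFCurv
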