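import Groth.Agent.H23TFCurv.ValueSet

/-!
# The value set of the dual of a module
-/

set_option autoImplicit false
set_option linter.style.haveILetI false

noncomputable section

universe u

open PowerSeries CategoryTheory

namespace Groth.Agent.H23TFCurv

variable {k : Type u} [Field k]

set_option maxHeartbeats 3200000 in
set_option synthInstance.maxHeartbeats 400000 in
/-- The orders of the multipliers of `M` into a canonical ideal. -/
theorem valueSet_multipliers (A : Subalgebra k (PowerSeries k)) (hA : Module.Finite A (PowerSeries k))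
    (hcl : ∀ f : PowerSeries k, (∀ n : ℕ, ∃ g ∈ A, (n : ℕ∞) ≤ order (f - g)) → f ∈ A)
    (Γ : Set ℕ) (hΓ : ∀ n : ℕ, n ∈ Γ ↔ ∃ f ∈ A, order f = n) (c : ℕ) (hc : ∀ n : ℕ, c ≤ n → n ∈ Γ)
    (hc0 : c ≠ 0) (hc1 : c - 1 ∉ Γ) (ω : Submodule A (PowerSeries k)) (hω1 : (1 : PowerSeries k) ∈ ω) (hωfg : ω.FG)
    (hωinj : HasInjectiveDimensionLT (ModuleCat.of A ω) 2) (M : Submodule A (PowerSeries k)) (hMfg : M.FG)
    (hM1 : (1 : PowerSeries k) ∈ M) (n : ℕ) :
    (∃ u : PowerSeries k, order u = n ∧ ∀ m ∈ M, u * m ∈ ω) ↔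
      (c ≤ n ∨ ¬ ∃ m ∈ M, order m = ((c - 1 - n : ℕ) : ℕ∞)) := by
  classical
  -- the conductor lies in the ring
  have hhigh : ∀ g : PowerSeries k, (∀ i < c, coeff i g = 0) → g ∈ A := by
    intro g hg
    have := mem_of_orders hA hcl (Submodule.span A {(1 : PowerSeries k)}) c (fun m hm => by
      obtain ⟨f, hf, hfm⟩ := (hΓ m).mp (hc m hm)
      exact ⟨f, Submodule.mem_span_singleton.mpr ⟨⟨f, hf⟩, by simp [Subalgebra.smul_def]⟩, hfm⟩) g hg
    obtain ⟨a, ha⟩ := Submodule.mem_span_singleton.mp this
    rw [← ha, Subalgebra.smul_def, smul_eq_mul, mul_one]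
    exact a.2
  haveI : IsNoetherianRing A := isNoetherianRing_closed hA
  haveI : IsLocalRing A := isLocalRing_closed hcl
  have hdim : ringKrullDim A = 1 := ringKrullDim_closed hcl hc0 hhigh
  haveI : Module.Finite A (PowerSeries k) := hA
  haveI : NoZeroSMulDivisors A (PowerSeries k) := ⟨fun {a x} h =>
    (mul_eq_zero.mp (h : (a : PowerSeries k) * x = 0)).imp_left fun h' => Subtype.ext h'⟩
  -- transport to the fraction field
  let K := FractionRing A
  let T : A := ⟨X ^ c, hhigh _ fun i hi => by rw [coeff_X_pow, if_neg hi.ne]⟩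
  have hT0 : T ≠ 0 := fun h => pow_ne_zero c PowerSeries.X_ne_zero (congrArg Subtype.val h)
  have hTK : algebraMap A K T ≠ 0 := fun h => hT0 (IsFractionRing.injective A K (h.trans (map_zero _).symm))
  let sh : PowerSeries k →ₗ[A] A :=
    { toFun := fun f => ⟨X ^ c * f, hhigh _ fun i hi => by rw [coeff_X_pow_mul', if_neg (by omega)]⟩
      map_add' := fun f g => Subtype.ext (mul_add _ _ _)
      map_smul' := fun a f => Subtype.ext (mul_left_comm _ _ _) }
  let Λ : PowerSeries k →ₗ[A] K :=
    (LinearMap.mulLeft A (algebraMap A K T)⁻¹) ∘ₗ (Algebra.linearMap A K) ∘ₗ sh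
  have hΛ : Function.Injective Λ := fun f g h => by
    have h1 := IsFractionRing.injective A K (mul_left_cancel₀ (inv_ne_zero hTK) h)
    exact mul_left_cancel₀ (pow_ne_zero c PowerSeries.X_ne_zero) (congrArg Subtype.val h1)
  let eω : ω ≃ₗ[A] ↥(ω.map Λ) := Submodule.equivMapOfInjective Λ hΛ ω
  haveI := hωinj
  let iω : ModuleCat.of A ω ≅ ModuleCat.of A ↥(ω.map Λ) :=
    { hom := ModuleCat.ofHom eω.toLinearMap
      inv := ModuleCat.ofHom eω.symm.toLinearMap
      hom_inv_id := ModuleCat.hom_ext (LinearMap.ext fun x => eω.symm_apply_apply x)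
      inv_hom_id := ModuleCat.hom_ext (LinearMap.ext fun x => eω.apply_symm_apply x) }
  have hω : IsCanonical (ω.map Λ) := ⟨hdim, fun h => by
    have : Λ 1 ∈ ω.map Λ := ⟨1, hω1, rfl⟩
    rw [h, Submodule.mem_bot] at this
    exact one_ne_zero (hΛ (this.trans (map_zero Λ).symm)), hωfg.map Λ,
    hasInjectiveDimensionLT_of_iso iω 2⟩
  -- series of high order
  have hωhigh : ∀ g : PowerSeries k, (∀ i < c, coeff i g = 0) → g ∈ ω := fun g hg => by
    have := ω.smul_mem ⟨g, hhigh g hg⟩ hω1
    rwa [Subalgebra.smul_def, smul_eq_mul, mul_one] at this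
  have hMhigh : ∀ g : PowerSeries k, (∀ i < c, coeff i g = 0) → g ∈ M := fun g hg => by
    have := M.smul_mem ⟨g, hhigh g hg⟩ hM1
    rwa [Subalgebra.smul_def, smul_eq_mul, mul_one] at this
  have hmul : ∀ (u f : PowerSeries k), (∀ i < c, coeff i u = 0) → ∀ i < c, coeff i (u * f) = 0 :=
    fun u f hu i hi => X_pow_dvd_iff.mp ((X_pow_dvd_iff.mpr hu).mul_right f) i hi
  -- a series multiplying everything into `ω` has high order
  have hUR : ∀ u : PowerSeries k, (∀ f, u * f ∈ ω) → ∀ i < c, coeff i u = 0 := by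
    intro u hu
    have huA : ∀ f, u * f ∈ A := by
      intro f
      let φ : ω →ₗ[A] ω :=
        { toFun := fun w => ⟨u * f * w, by rw [mul_assoc]; exact hu _⟩
          map_add' := fun w w' => Subtype.ext (mul_add _ _ _)
          map_smul' := fun r w => Subtype.ext (mul_left_comm _ _ _) }
      obtain ⟨r, hr⟩ := exists_eq_smul_id hω (eω.toLinearMap ∘ₗ φ ∘ₗ eω.symm.toLinearMap)
      have h1 := LinearMap.congr_fun hr (eω ⟨1, hω1⟩)
      simp only [LinearMap.comp_apply, LinearEquiv.coe_coe, LinearEquiv.symm_apply_apply, LinearMap.smul_apply,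
        LinearMap.id_apply, ← map_smul] at h1
      have h2 := congrArg Subtype.val (eω.injective h1)
      change u * f * 1 = (r : PowerSeries k) * 1 at h2
      rw [mul_one, mul_one] at h2
      rw [h2]
      exact r.2
    by_contra hne
    push Not at hne
    obtain ⟨i, hi, hui⟩ := hne
    obtain ⟨d, hd⟩ := ENat.ne_top_iff_exists.mp (mt order_eq_top.mp (fun h => hui (by rw [h, map_zero])) : order u ≠ ⊤)
    have hdi : d ≤ i := by
      have := order_le i hui
      rw [← hd] at this
      exact_mod_cast this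
    refine hc1 ((hΓ _).mpr ⟨u * X ^ (c - 1 - d), huA _, ?_⟩)
    rw [order_mul, order_X_pow, ← hd, ← Nat.cast_add]
    congr 1
    omega
  -- the multipliers
  let V : Submodule k (PowerSeries k) :=
    { carrier := {u | ∀ m ∈ M, u * m ∈ ω}
      add_mem' := fun {a b} ha hb m hm => by rw [add_mul]; exact ω.add_mem (ha m hm) (hb m hm)
      zero_mem' := fun m _ => by rw [zero_mul]; exact ω.zero_mem
      smul_mem' := fun r a ha m hm => by
        rw [smul_mul_assoc]
        exact ω.smul_of_tower_mem r (ha m hm) }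
  have hV : ∀ g : PowerSeries k, (∀ i < c, coeff i g = 0) → g ∈ V := fun g hg m _ => hωhigh _ (hmul g m hg)
  let Mk : Submodule k (PowerSeries k) := M.restrictScalars k
  -- the length comparison
  let π := M.mkQ
  have hker : LinearMap.ker π = M := M.ker_mkQ
  let one' : LinearMap.ker π := ⟨1, hker.ge hM1⟩
  have hres : ∀ a : A, ∃ r : k, a - algebraMap k A r ∈ IsLocalRing.maximalIdeal A := fun a =>
    ⟨constantCoeff (a : PowerSeries k), by
      rw [IsLocalRing.mem_maximalIdeal, mem_nonunits_iff, isUnit_iff_constantCoeff_closed hcl, not_not]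
      push_cast
      simp [PowerSeries.algebraMap_apply]⟩
  haveI : Module.Finite k (PowerSeries k ⧸ Mk) := by
    let p : (Fin c → k) →ₗ[k] PowerSeries k ⧸ Mk := Mk.mkQ ∘ₗ
      { toFun := fun v => PowerSeries.mk fun i => if h : i < c then v ⟨i, h⟩ else 0
        map_add' := fun v w => by ext i; simp only [coeff_mk, map_add]; split_ifs <;> simp
        map_smul' := fun r v => by ext i; simp only [coeff_mk, coeff_smul, RingHom.id_apply]; split_ifs <;> simp }
    refine Module.Finite.of_surjective p fun y => ?_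
    obtain ⟨g, rfl⟩ := Submodule.Quotient.mk_surjective _ y
    refine ⟨fun i => coeff i.1 g, (Submodule.Quotient.eq _).mpr (hMhigh _ fun i hi => ?_)⟩
    simp [hi]
  have hQ : Module.length A (PowerSeries k ⧸ M) = ((ordSet Mk)ᶜ.ncard : ℕ∞) := by
    rw [length_eq_of_residue k hres, ← (Submodule.Quotient.restrictScalarsEquiv k M).length_eq,
      Module.length_eq_finrank, finrank_quotient (V := Mk) hMhigh]
  have hcoker := length_coker_restrict hω π M.mkQ_surjective (by rw [hQ]; exact ENat.coe_ne_top _)
  rw [hQ] at hcoker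
  -- the values at `1`
  let val : (LinearMap.ker π →ₗ[A] ↥(ω.map Λ)) → PowerSeries k := fun φ => (eω.symm (φ one')).1
  have hval : ∀ (φ : LinearMap.ker π →ₗ[A] ↥(ω.map Λ)) (v : LinearMap.ker π),
      (eω.symm (φ v)).1 = val φ * v.1 := by
    intro φ v
    let av : A := ⟨X ^ c * v.1, hhigh _ fun i hi => by rw [coeff_X_pow_mul', if_neg (by omega)]⟩
    have h0 : T • v = av • one' := Subtype.ext (by
      show (X ^ c : PowerSeries k) * v.1 = (X ^ c * v.1) * 1
      rw [mul_one])
    have h1 := congrArg (fun z => (eω.symm (φ z)).1) h0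
    simp only [map_smul] at h1
    change (X ^ c : PowerSeries k) * (eω.symm (φ v)).1 = X ^ c * v.1 * val φ at h1
    refine mul_left_cancel₀ (pow_ne_zero c PowerSeries.X_ne_zero : (X : PowerSeries k) ^ c ≠ 0) ?_
    rw [h1]
    ring
  let Θ : (LinearMap.ker π →ₗ[A] ↥(ω.map Λ)) →ₗ[k] (Fin c → k) :=
    { toFun := fun φ i => coeff i.1 (val φ)
      map_add' := fun φ ψ => by
        funext i
        show coeff i.1 (eω.symm ((φ + ψ) one')).1 = coeff i.1 (val φ) + coeff i.1 (val ψ)
        rw [LinearMap.add_apply, map_add, Submodule.coe_add, map_add]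
      map_smul' := fun r φ => by
        funext i
        show coeff i.1 (eω.symm ((r • φ) one')).1 = r * coeff i.1 (val φ)
        rw [LinearMap.smul_apply, ← IsScalarTower.algebraMap_smul A r (φ one'), map_smul, Submodule.coe_smul,
          Subalgebra.smul_def, smul_eq_mul]
        show coeff i.1 (algebraMap k (PowerSeries k) r * val φ) = _
        rw [PowerSeries.algebraMap_eq, coeff_C_mul] }
  have hkΘ : LinearMap.ker Θ = (LinearMap.range (LinearMap.lcomp A ↥(ω.map Λ) (LinearMap.ker π).subtype)).restrictScalars k := by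
    ext φ
    rw [LinearMap.mem_ker, Submodule.restrictScalars_mem, LinearMap.mem_range]
    constructor
    · intro h
      have hu : ∀ i < c, coeff i (val φ) = 0 := fun i hi => congrFun h ⟨i, hi⟩
      let g : PowerSeries k →ₗ[A] ω :=
        { toFun := fun f => ⟨val φ * f, hωhigh _ (hmul _ f hu)⟩
          map_add' := fun f f' => Subtype.ext (mul_add _ _ _)
          map_smul' := fun r f => Subtype.ext (mul_left_comm _ _ _) }
      refine ⟨eω.toLinearMap ∘ₗ g, LinearMap.ext fun v => eω.symm.injective (Subtype.ext ?_)⟩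
      rw [hval φ v]
      show (eω.symm (eω (g v.1))).1 = _
      rw [LinearEquiv.symm_apply_apply]
      rfl
    · rintro ⟨n', rfl⟩
      funext i
      refine hUR _ (fun f => ?_) i.1 i.2
      let af : A := ⟨X ^ c * f, hhigh _ fun j hj => by rw [coeff_X_pow_mul', if_neg (by omega)]⟩
      have h0 : T • f = af • (1 : PowerSeries k) := by
        show (X ^ c : PowerSeries k) * f = (X ^ c * f) * 1
        rw [mul_one]
      have h1 := congrArg (fun z => (eω.symm (n' z)).1) h0
      simp only [map_smul] at h1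
      change (X ^ c : PowerSeries k) * (eω.symm (n' f)).1 = X ^ c * f * (eω.symm (n' 1)).1 at h1
      have h2 : (eω.symm (n' 1)).1 * f = (eω.symm (n' f)).1 :=
        mul_left_cancel₀ (pow_ne_zero c PowerSeries.X_ne_zero : (X : PowerSeries k) ^ c ≠ 0) (by rw [h1]; ring)
      show (eω.symm (n' 1)).1 * f ∈ ω
      rw [h2]
      exact (eω.symm (n' f)).2
  have hrange : ((LinearMap.range Θ : Submodule k (Fin c → k)) : Set (Fin c → k)) =
      (fun u : PowerSeries k => fun i : Fin c => coeff i.1 u) '' (V : Set (PowerSeries k)) := by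
    ext v
    constructor
    · rintro ⟨φ, rfl⟩
      refine ⟨val φ, fun m hm => ?_, rfl⟩
      rw [show val φ * m = (eω.symm (φ ⟨m, hker.ge hm⟩)).1 from (hval φ ⟨m, hker.ge hm⟩).symm]
      exact (eω.symm _).2
    · rintro ⟨u, hu, rfl⟩
      let g : LinearMap.ker π →ₗ[A] ω :=
        { toFun := fun w => ⟨u * w.1, hu _ (hker.le w.2)⟩
          map_add' := fun f f' => Subtype.ext (mul_add _ _ _)
          map_smul' := fun r f => Subtype.ext (mul_left_comm _ _ _) }
      refine ⟨eω.toLinearMap ∘ₗ g, funext fun i => ?_⟩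
      show coeff i.1 (eω.symm (eω (g one'))).1 = coeff i.1 u
      rw [LinearEquiv.symm_apply_apply]
      show coeff i.1 (u * 1) = _
      rw [mul_one]
  have hW : Module.finrank k (LinearMap.range Θ) = (ordSet Mk)ᶜ.ncard := by
    have e1 := ((Submodule.Quotient.restrictScalarsEquiv k _).symm.trans ((Submodule.quotEquivOfEq _ _ hkΘ.symm).trans
      (LinearMap.quotKerEquivRange (M := (LinearMap.ker π →ₗ[A] ↥(ω.map Λ))) Θ))).length_eq
    rw [length_eq_of_residue k hres, e1, Module.length_eq_finrank] at hcoker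
    exact_mod_cast hcoker
  have hsum : (ordSet V)ᶜ.ncard + (ordSet Mk)ᶜ.ncard = c := by
    let W := LinearMap.range Θ
    let co : PowerSeries k →ₗ[k] (Fin c → k) :=
      { toFun := fun u i => coeff i.1 u
        map_add' := fun u v => by funext i; simp
        map_smul' := fun r u => by funext i; simp }
    have hco : Function.Surjective (W.mkQ ∘ₗ co) := fun y => by
      obtain ⟨v, rfl⟩ := Submodule.Quotient.mk_surjective _ y
      refine ⟨PowerSeries.mk fun i => if h : i < c then v ⟨i, h⟩ else 0, congrArg W.mkQ (funext fun i => ?_)⟩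
      simp [co, i.2]
    have hkco : LinearMap.ker (W.mkQ ∘ₗ co) = V := by
      ext u
      rw [LinearMap.mem_ker, LinearMap.comp_apply, Submodule.mkQ_apply, Submodule.Quotient.mk_eq_zero]
      constructor
      · intro hu
        obtain ⟨u', hu', he⟩ := hrange.le hu
        have := V.add_mem hu' (hV (u - u') fun i hi => by
          rw [map_sub, sub_eq_zero]
          exact (congrFun he ⟨i, hi⟩).symm)
        rwa [add_sub_cancel] at this
      · exact fun hu => hrange.ge ⟨u, hu, rfl⟩
    have := W.finrank_quotient_add_finrank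
    rw [← ((Submodule.quotEquivOfEq _ _ hkco.symm).trans ((W.mkQ ∘ₗ co).quotKerEquivOfSurjective hco)).finrank_eq,
      finrank_quotient hV, hW, Module.finrank_fin_fun] at this
    exact this
  -- counting
  have hlt : ∀ j ∈ (ordSet Mk)ᶜ, j < c := fun j hj => by
    by_contra h
    exact hj (mem_ordSet_of_le (N := c) hMhigh (not_lt.mp h))
  have hmaps : ∀ j, j ∈ ordSet V → j < c → (c - 1 - j) ∈ (ordSet Mk)ᶜ := by
    rintro j ⟨u, hu, huj⟩ hjc ⟨m, hm, hmo⟩
    have hω' : ∀ i, c - 1 ≤ i → ∃ f ∈ ω, order f = i := fun i hi => by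
      rcases hi.eq_or_lt with rfl | hlt'
      · exact ⟨u * m, hu m hm, by rw [order_mul, huj, hmo, ← Nat.cast_add]; congr 1; omega⟩
      · exact ⟨X ^ i, hωhigh _ fun l hl => by rw [coeff_X_pow, if_neg (by omega)], order_X_pow i⟩
    have := hUR (X ^ (c - 1)) (fun f => mem_of_orders hA hcl ω (c - 1) hω' _ fun i hi => by
      rw [coeff_X_pow_mul', if_neg (by omega)]) (c - 1) (by omega)
    rw [coeff_X_pow_self] at this
    exact one_ne_zero this
  let S := (Finset.range c).filter (fun j => j ∈ ordSet V)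
  let G := (Finset.range c).filter (fun j => j ∉ ordSet Mk)
  have hGcard : G.card = (ordSet Mk)ᶜ.ncard := by
    rw [← Set.ncard_coe_finset]
    congr 1
    ext j
    simp [G]
    exact fun h => hlt j h
  have hScard : S.card + (ordSet V)ᶜ.ncard = c := by
    have h2 : ((Finset.range c).filter (fun j => j ∉ ordSet V)).card = (ordSet V)ᶜ.ncard := by
      rw [← Set.ncard_coe_finset]
      congr 1
      ext j
      simp
      exact fun h => by
        by_contra h'
        exact h (mem_ordSet_of_le hV (not_lt.mp h'))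
    rw [← h2, Finset.card_filter_add_card_filter_not, Finset.card_range]
  have himg : S.image (fun j => c - 1 - j) = G := by
    refine Finset.eq_of_subset_of_card_le (fun x hx => ?_) ?_
    · obtain ⟨j, hj, rfl⟩ := Finset.mem_image.mp hx
      simp only [S, Finset.mem_filter, Finset.mem_range] at hj
      simp only [G, Finset.mem_filter, Finset.mem_range]
      exact ⟨by omega, hmaps j hj.2 hj.1⟩
    · rw [Finset.card_image_of_injOn ?_, hGcard]
      · omega
      · intro x hx y hy hxy
        simp only [S, Finset.coe_filter, Finset.mem_range, Set.mem_setOf_eq] at hx hy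
        simp only at hxy
        omega
  constructor
  · rintro ⟨u, hu, hmu⟩
    by_cases hcn : c ≤ n
    · exact Or.inl hcn
    · exact Or.inr fun hm => hmaps n ⟨u, hmu, hu⟩ (not_le.mp hcn) hm
  · rintro (hcn | hm)
    · exact ⟨X ^ n, order_X_pow n, hV _ fun i hi => by rw [coeff_X_pow, if_neg (by omega)]⟩
    · by_cases hcn : c ≤ n
      · exact ⟨X ^ n, order_X_pow n, hV _ fun i hi => by rw [coeff_X_pow, if_neg (by omega)]⟩
      have hG : c - 1 - n ∈ G := by
        simp only [G, Finset.mem_filter, Finset.mem_range]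
        exact ⟨by omega, hm⟩
      rw [← himg, Finset.mem_image] at hG
      obtain ⟨j, hj, hje⟩ := hG
      simp only [S, Finset.mem_filter, Finset.mem_range] at hj
      obtain rfl : j = n := by omega
      obtain ⟨u, hu, huj⟩ := hj.2
      exact ⟨u, huj, hu⟩

end Groth.Agent.H23TFCurv
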